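import Mathlib
import Cfsg.Prelude.Def_ClassicalGeometry
import Cfsg.Prelude.Def_GeometricClasses
import Cfsg.Agent.Lib.Helper5.TSMax
import Cfsg.Agent.Lib.Helper11.Om11S.H19_OSubDefs

set_option linter.dupNamespace false
set_option linter.ambiguousOpen false

namespace Cfsg.Agent.Lib.Helper11.Om11S

/-!
helper19: S5683 / S5702, basic lemmas: action on vectors, isometries, calculus of the long root
elements `rt`, rational vectors, membership in the standard subfield group.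
(The subfield-group lemmas are helper2's `SpSubBasic` proofs with the index type generalised.)
-/

set_option autoImplicit false
set_option linter.unusedSectionVars false
set_option linter.unusedVariables false
set_option linter.unusedSimpArgs false

namespace Cfsg.Agent.Lib.Helper19.OSub
open Cfsg.Agent.Lib.Helper19.OSub
open Cfsg Matrix QuadraticMap Module Cfsg.Agent.Lib.Helper25.Siegel Cfsg.Agent.Lib.Helper25.CD
open _root_.Cfsg _root_.Cfsg.Agent.Lib.Helper25.Siegel _root_.Cfsg.Agent.Lib.Helper25.CD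
open scoped commutatorElement

variable {ι : Type} [Fintype ι] [DecidableEq ι] {F : Type*} [Field F]

theorem gl_ext {g h : GL ι F} (hgh : ∀ x, mv g x = mv h x) : g = h := by
  apply Units.ext
  exact Matrix.mulVec_injective (funext hgh)

theorem mv_mul (g h : GL ι F) (x : ι → F) : mv (g * h) x = mv g (mv h x) := by
  unfold mv
  rw [Units.val_mul, Matrix.mulVec_mulVec]

theorem mv_one (x : ι → F) : mv (1 : GL ι F) x = x := by
  unfold mv
  rw [Units.val_one, Matrix.one_mulVec]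

theorem mv_inv_mv (g : GL ι F) (x : ι → F) : mv g⁻¹ (mv g x) = x := by
  rw [← mv_mul, inv_mul_cancel, mv_one]

theorem mv_mv_inv (g : GL ι F) (x : ι → F) : mv g (mv g⁻¹ x) = x := by
  rw [← mv_mul, mul_inv_cancel, mv_one]

theorem mv_add (g : GL ι F) (x y : ι → F) : mv g (x + y) = mv g x + mv g y :=
  Matrix.mulVec_add _ _ _

theorem mv_sub (g : GL ι F) (x y : ι → F) : mv g (x - y) = mv g x - mv g y :=
  Matrix.mulVec_sub _ _ _

theorem mv_smul (g : GL ι F) (c : F) (x : ι → F) : mv g (c • x) = c • mv g x :=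
  Matrix.mulVec_smul _ _ _

theorem mv_neg (g : GL ι F) (x : ι → F) : mv g (-x) = -mv g x := Matrix.mulVec_neg _ _

theorem mv_zero (g : GL ι F) : mv g 0 = 0 := Matrix.mulVec_zero _

theorem mv_injective (g : GL ι F) : Function.Injective (mv g) := by
  intro x y hxy
  rw [← mv_inv_mv g x, hxy, mv_inv_mv]

variable {Q : QuadraticForm F (ι → F)}

/-- isometries preserve `Q` -/
theorem iso_Q {g : GL ι F} (hg : g ∈ Cfsg.isometryGroup F ⇑Q) (x : ι → F) : Q (mv g x) = Q x :=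
  hg x x

theorem iso_polar {g : GL ι F} (hg : g ∈ Cfsg.isometryGroup F ⇑Q) (x y : ι → F) :
    polar Q (mv g x) (mv g y) = polar Q x y := by
  unfold polar
  rw [← mv_add, iso_Q hg, iso_Q hg, iso_Q hg]

theorem iso_polar_inv {g : GL ι F} (hg : g ∈ Cfsg.isometryGroup F ⇑Q) (x y : ι → F) :
    polar Q x (mv g⁻¹ y) = polar Q (mv g x) y := by
  rw [← iso_polar hg x (mv g⁻¹ y), mv_mv_inv]

theorem omegaGL_le_iso : Cfsg.Geo.omegaGL ⇑Q ≤ Cfsg.isometryGroup F ⇑Q := by
  rintro x ⟨g, -, rfl⟩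
  exact g.2

/-! ### the root elements -/

theorem rt_of {u v : ι → F} (hu : Q u = 0) (hv : Q v = 0) (huv : polar Q u v = 0) (c : F) :
    rt Q u v c = ((siegG Q u v c hu hv huv : ↥(Cfsg.isometryGroup F ⇑Q)) : GL ι F) := by
  unfold rt
  rw [dif_pos ⟨hu, hv, huv⟩]

theorem rt_of_not {u v : ι → F} (h : ¬ (Q u = 0 ∧ Q v = 0 ∧ polar Q u v = 0)) (c : F) :
    rt Q u v c = 1 := by
  unfold rt
  rw [dif_neg h]

theorem mv_rt {u v : ι → F} (hu : Q u = 0) (hv : Q v = 0) (huv : polar Q u v = 0) (c : F)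
    (x : ι → F) : mv (rt Q u v c) x = x + c • (polar Q u x • v - polar Q v x • u) := by
  unfold mv
  rw [rt_of hu hv huv, siegG_coe, siegelMatrix_mulVec]
  rfl

theorem rt_mem_iso (u v : ι → F) (c : F) : rt Q u v c ∈ Cfsg.isometryGroup F ⇑Q := by
  by_cases h : Q u = 0 ∧ Q v = 0 ∧ polar Q u v = 0
  · rw [rt_of h.1 h.2.1 h.2.2]
    exact (siegG Q u v c h.1 h.2.1 h.2.2).2
  · rw [rt_of_not h]
    exact one_mem _

theorem rt_mem_omega [Fintype F] (hQ : (polarBilin Q).Nondegenerate) (hn : 7 ≤ Fintype.card ι)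
    (u v : ι → F) (c : F) : rt Q u v c ∈ Cfsg.Geo.omegaGL ⇑Q := by
  by_cases h : Q u = 0 ∧ Q v = 0 ∧ polar Q u v = 0
  · rw [rt_of h.1 h.2.1 h.2.2]
    exact ⟨siegG Q u v c h.1 h.2.1 h.2.2, siegG_mem_omega Q hQ hn u v c h.1 h.2.1 h.2.2, rfl⟩
  · rw [rt_of_not h]
    exact one_mem _

theorem conj_rt {g : GL ι F} (hg : g ∈ Cfsg.isometryGroup F ⇑Q) (u v : ι → F) (c : F) :
    g * rt Q u v c * g⁻¹ = rt Q (mv g u) (mv g v) c := by
  by_cases h : Q u = 0 ∧ Q v = 0 ∧ polar Q u v = 0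
  · obtain ⟨hu, hv, huv⟩ := h
    have hu' : Q (mv g u) = 0 := by rw [iso_Q hg, hu]
    have hv' : Q (mv g v) = 0 := by rw [iso_Q hg, hv]
    have huv' : polar Q (mv g u) (mv g v) = 0 := by rw [iso_polar hg, huv]
    apply gl_ext
    intro x
    rw [mv_mul, mv_mul, mv_rt hu hv huv, mv_rt hu' hv' huv', mv_add, mv_smul, mv_sub, mv_smul,
      mv_smul, mv_mv_inv, iso_polar_inv hg, iso_polar_inv hg]
  · have h' : ¬ (Q (mv g u) = 0 ∧ Q (mv g v) = 0 ∧ polar Q (mv g u) (mv g v) = 0) := by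
      rw [iso_Q hg, iso_Q hg, iso_polar hg]
      exact h
    rw [rt_of_not h, rt_of_not h', mul_one, mul_inv_cancel]

theorem rt_mul (u v : ι → F) (c c' : F) : rt Q u v c * rt Q u v c' = rt Q u v (c + c') := by
  by_cases h : Q u = 0 ∧ Q v = 0 ∧ polar Q u v = 0
  · obtain ⟨hu, hv, huv⟩ := h
    apply gl_ext
    intro x
    rw [mv_mul, mv_rt hu hv huv, mv_rt hu hv huv, mv_rt hu hv huv]
    exact siegF_siegF Q hu hv huv c c' x
  · rw [rt_of_not h, rt_of_not h, rt_of_not h, mul_one]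

theorem rt_zero (u v : ι → F) : rt Q u v 0 = 1 := by
  by_cases h : Q u = 0 ∧ Q v = 0 ∧ polar Q u v = 0
  · obtain ⟨hu, hv, huv⟩ := h
    apply gl_ext
    intro x
    rw [mv_rt hu hv huv, mv_one, zero_smul, add_zero]
  · rw [rt_of_not h]

theorem rt_inv (u v : ι → F) (c : F) : (rt Q u v c)⁻¹ = rt Q u v (-c) := by
  apply inv_eq_of_mul_eq_one_right
  rw [rt_mul, add_neg_cancel, rt_zero]

theorem polar_self_sing {u : ι → F} (hu : Q u = 0) : polar Q u u = 0 := by
  rw [Cfsg.Agent.Lib.Helper25.MaxTS.polar_self, hu, mul_zero]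

theorem rt_smul_left {u v : ι → F} (hu : Q u = 0) (hv : Q v = 0) (huv : polar Q u v = 0)
    (l c : F) : rt Q (l • u) v c = rt Q u v (l * c) := by
  have hu' : Q (l • u) = 0 := by rw [QuadraticMap.map_smul, hu, smul_zero]
  have huv' : polar Q (l • u) v = 0 := by rw [polar_smul_left, huv, smul_zero]
  apply gl_ext
  intro x
  rw [mv_rt hu' hv huv', mv_rt hu hv huv, polar_smul_left]
  module

theorem rt_smul_right {u v : ι → F} (hu : Q u = 0) (hv : Q v = 0) (huv : polar Q u v = 0)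
    (l c : F) : rt Q u (l • v) c = rt Q u v (l * c) := by
  have hv' : Q (l • v) = 0 := by rw [QuadraticMap.map_smul, hv, smul_zero]
  have huv' : polar Q u (l • v) = 0 := by rw [polar_smul_right, huv, smul_zero]
  apply gl_ext
  intro x
  rw [mv_rt hu hv' huv', mv_rt hu hv huv, polar_smul_left]
  module

theorem rt_swap {u v : ι → F} (hu : Q u = 0) (hv : Q v = 0) (huv : polar Q u v = 0) (c : F) :
    rt Q u v c = rt Q v u (-c) := by
  have hvu : polar Q v u = 0 := by rw [polar_comm, huv]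
  apply gl_ext
  intro x
  rw [mv_rt hu hv huv, mv_rt hv hu hvu]
  module

/-- additivity in the second vector inside a totally singular subspace -/
theorem rt_add_right {u v v' : ι → F} (hu : Q u = 0) (hv : Q v = 0) (hv' : Q v' = 0)
    (huv : polar Q u v = 0) (huv' : polar Q u v' = 0) (hvv' : polar Q v v' = 0) (c : F) :
    rt Q u (v + v') c = rt Q u v c * rt Q u v' c := by
  have hvv : Q (v + v') = 0 := by
    rw [Cfsg.Agent.Lib.Helper25.MaxTS.Q_add, hv, hv', hvv']; ring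
  have huvv : polar Q u (v + v') = 0 := by rw [polar_add_right, huv, huv', add_zero]
  apply gl_ext
  intro x
  rw [mv_mul, mv_rt hu hvv huvv, mv_rt hu hv huv, mv_rt hu hv' huv']
  simp only [polar_add_left, polar_add_right, polar_smul_right, polar_sub_right, smul_eq_mul,
    polar_self_sing hu, huv, huv', hvv', polar_comm Q v u, polar_comm Q v' u, polar_comm Q v' v,
    polar_self_sing hv']
  module

/-- adding a multiple of the centre does not change the root element -/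
theorem rt_add_self {u v : ι → F} (hu : Q u = 0) (hv : Q v = 0) (huv : polar Q u v = 0)
    (l c : F) : rt Q u (v + l • u) c = rt Q u v c := by
  have hvv : Q (v + l • u) = 0 := by
    rw [Cfsg.Agent.Lib.Helper25.MaxTS.Q_add_smul, hv, hu, polar_comm Q v u, huv]; ring
  have huvv : polar Q u (v + l • u) = 0 := by
    rw [polar_add_right, polar_smul_right, huv, polar_self_sing hu, smul_zero, add_zero]
  apply gl_ext
  intro x
  rw [mv_rt hu hvv huvv, mv_rt hu hv huv]
  simp only [polar_add_left, polar_smul_left, smul_eq_mul]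
  module

/-- helper25's commutator relation `[x_{u,w}(a), x_{w',v}(b)] = x_{u,v}(-ab)` -/
theorem rt_comm {u v w w' : ι → F} (hu : Q u = 0) (hv : Q v = 0) (hw : Q w = 0) (hw' : Q w' = 0)
    (huv : polar Q u v = 0) (huw : polar Q u w = 0) (hvw : polar Q v w = 0)
    (huw' : polar Q u w' = 0) (hvw' : polar Q v w' = 0) (hww' : polar Q w w' = 1) (a b : F) :
    ⁅rt Q u w a, rt Q w' v b⁆ = rt Q u v (-(a * b)) := by
  have hw'v : polar Q w' v = 0 := by rw [polar_comm]; exact hvw'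
  rw [rt_of hu hw huw, rt_of hw' hv hw'v, rt_of hu hv huv]
  have h := siegG_commutator Q hu hv hw hw' huv huw hvw huw' hvw' hww' a b
  have h2 := congrArg (fun g : ↥(Cfsg.isometryGroup F ⇑Q) => (g : GL ι F)) h
  simpa [commutatorElement_def] using h2

/-- `[x_{a,w}(1), x_{u,v}(1)] = x_{a, B(v,w) u - B(u,w) v}(1)` for `a ⊥ w, u, v` and `u ⊥ v` -/
theorem rt_comm1 {a w u v : ι → F} (ha : Q a = 0) (hw : Q w = 0) (hu : Q u = 0) (hv : Q v = 0)
    (haw : polar Q a w = 0) (hau : polar Q a u = 0) (hav : polar Q a v = 0)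
    (huv : polar Q u v = 0) :
    ⁅rt Q a w 1, rt Q u v 1⁆ = rt Q a (polar Q v w • u - polar Q u w • v) 1 := by
  obtain ⟨b, hb⟩ : ∃ b, b = polar Q v w • u - polar Q u w • v := ⟨_, rfl⟩
  have hQb : Q b = 0 := by
    rw [hb, sub_eq_add_neg, ← neg_smul, Cfsg.Agent.Lib.Helper25.MaxTS.Q_add,
      QuadraticMap.map_smul, QuadraticMap.map_smul, hu, hv, polar_smul_left, polar_smul_right,
      huv]
    simp
  have hab : polar Q a b = 0 := by
    rw [hb, polar_sub_right, polar_smul_right, polar_smul_right, hau, hav]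
    simp
  rw [← hb, commutatorElement_def, rt_inv, rt_inv]
  apply gl_ext
  intro x
  rw [mv_mul, mv_mul, mv_mul, mv_rt ha hQb hab, mv_rt ha hw haw, mv_rt hu hv huv,
    mv_rt ha hw haw, mv_rt hu hv huv, hb]
  simp only [polar_add_left, polar_add_right, polar_smul_right, polar_smul_left, polar_sub_right,
    polar_sub_left, polar_neg_right, polar_neg_left, smul_eq_mul, polar_self_sing ha,
    polar_self_sing hw, polar_self_sing hu, polar_self_sing hv, haw, hau, hav, huv,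
    polar_comm Q w a, polar_comm Q u a, polar_comm Q v a, polar_comm Q v u, polar_comm Q w u,
    polar_comm Q w v]
  module

/-! ### rational vectors -/

section Rat
variable {F₀ : Subfield F}

theorem ratV_zero : RatV F₀ (0 : ι → F) := fun _ => F₀.zero_mem

theorem ratV_add {x y : ι → F} (hx : RatV F₀ x) (hy : RatV F₀ y) : RatV F₀ (x + y) :=
  fun i => F₀.add_mem (hx i) (hy i)

theorem ratV_neg {x : ι → F} (hx : RatV F₀ x) : RatV F₀ (-x) := fun i => F₀.neg_mem (hx i)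

theorem ratV_sub {x y : ι → F} (hx : RatV F₀ x) (hy : RatV F₀ y) : RatV F₀ (x - y) :=
  fun i => F₀.sub_mem (hx i) (hy i)

theorem ratV_smul {c : F} (hc : c ∈ F₀) {x : ι → F} (hx : RatV F₀ x) : RatV F₀ (c • x) :=
  fun i => F₀.mul_mem hc (hx i)

theorem ratV_sum {κ : Type*} (S : Finset κ) (f : κ → (ι → F)) (hf : ∀ k ∈ S, RatV F₀ (f k)) :
    RatV F₀ (∑ k ∈ S, f k) := by
  intro i
  rw [Finset.sum_apply]
  exact F₀.sum_mem (fun k hk => hf k hk i)

theorem ratV_single (u : ι) : RatV F₀ (Pi.single u (1 : F) : ι → F) := by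
  intro i
  by_cases h : i = u
  · subst h; rw [Pi.single_eq_same]; exact F₀.one_mem
  · rw [Pi.single_eq_of_ne h]; exact F₀.zero_mem

theorem ratV_polar (h : QCtx F₀ Q) {x y : ι → F} (hx : RatV F₀ x) (hy : RatV F₀ y) :
    polar Q x y ∈ F₀ := by
  unfold polar
  exact F₀.sub_mem (F₀.sub_mem (h.ratQ _ (ratV_add hx hy)) (h.ratQ _ hx)) (h.ratQ _ hy)

end Rat

/-! ### the standard subfield group (helper2's proofs, index type generalised) -/

section Sub
variable (F₀ : Subfield F)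

theorem mem_sub1_iff (g : GL (ι) F) :
    g ∈ Cfsg.Geo.subfieldSubgroup F₀ (1 : GL (ι) F) ↔
      ∃ (a : GL (ι) F₀) (c : Fˣ),
        (g : Matrix (ι) (ι) F) =
          (c : F) • (a : Matrix (ι) (ι) F₀).map (F₀.subtype : F₀ →+* F) := by
  unfold Cfsg.Geo.subfieldSubgroup
  have h1 : (MulAut.conj (1 : GL (ι) F)).toMonoidHom = MonoidHom.id _ := by
    ext g
    simp
  rw [h1, Subgroup.map_id, Subgroup.mem_sup_of_normal_right]
  constructor
  · rintro ⟨y, ⟨a, rfl⟩, z, hz, rfl⟩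
    rw [Cfsg.Geo.mem_scalars_iff] at hz
    obtain ⟨c, hc⟩ := hz
    refine ⟨a, c, ?_⟩
    rw [Units.val_mul, hc, Matrix.mul_smul, Matrix.mul_one]
    rfl
  · rintro ⟨a, c, hg⟩
    have hs : ∃ s : GL (ι) F,
        (s : Matrix (ι) (ι) F) = (c : F) • 1 := by
      refine ⟨⟨(c : F) • 1, ((c⁻¹ : Fˣ) : F) • 1, ?_, ?_⟩, rfl⟩
      · rw [Matrix.smul_mul, Matrix.mul_smul, Matrix.mul_one, smul_smul, ← Units.val_mul,
          mul_inv_cancel, Units.val_one, one_smul]
      · rw [Matrix.smul_mul, Matrix.mul_smul, Matrix.mul_one, smul_smul, ← Units.val_mul,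
          inv_mul_cancel, Units.val_one, one_smul]
    obtain ⟨s, hs⟩ := hs
    refine ⟨Matrix.GeneralLinearGroup.map (F₀.subtype : F₀ →+* F) a, ⟨a, rfl⟩, s, ?_, ?_⟩
    · rw [Cfsg.Geo.mem_scalars_iff]
      exact ⟨c, hs⟩
    · apply Units.ext
      rw [Units.val_mul, hs, hg, Matrix.mul_smul, Matrix.mul_one]
      rfl

/-- (A2) -/
theorem rat_of_mem_sub1 (g : GL (ι) F)
    (hg : g ∈ Cfsg.Geo.subfieldSubgroup F₀ (1 : GL (ι) F)) :
    ∃ μ : F, μ ≠ 0 ∧ ∀ x, RatV F₀ x → ∃ r, RatV F₀ r ∧ mv g x = μ • r := by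
  rw [mem_sub1_iff] at hg
  obtain ⟨a, c, hac⟩ := hg
  refine ⟨(c : F), c.ne_zero, fun x hx => ?_⟩
  refine ⟨((a : Matrix (ι) (ι) F₀).map (F₀.subtype : F₀ →+* F)) *ᵥ x, ?_, ?_⟩
  · intro i
    rw [Matrix.mulVec, dotProduct]
    apply F₀.sum_mem
    intro j _
    apply F₀.mul_mem
    · rw [Matrix.map_apply]
      exact ((a : Matrix (ι) (ι) F₀) i j).2
    · exact hx j
  · unfold mv
    rw [hac, Matrix.smul_mulVec]

theorem mem_sub1_of_entries (g : GL (ι) F) (μ : F) (hμ : μ ≠ 0)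
    (hent : ∀ i j, ∃ a ∈ F₀, (g : Matrix (ι) (ι) F) i j = μ * a) :
    g ∈ Cfsg.Geo.subfieldSubgroup F₀ (1 : GL (ι) F) := by
  rw [mem_sub1_iff]
  choose A₀ hA₀mem hA₀ using hent
  obtain ⟨A₀', hA₀'⟩ : ∃ A₀' : Matrix (ι) (ι) F₀,
      A₀' = fun i j => ⟨A₀ i j, hA₀mem i j⟩ := ⟨_, rfl⟩
  have hmap : (g : Matrix (ι) (ι) F) =
      μ • A₀'.map (F₀.subtype : F₀ →+* F) := by
    ext i j
    rw [hA₀ i j, Matrix.smul_apply, Matrix.map_apply, hA₀', smul_eq_mul]
    rfl
  have hdet0 : (g : Matrix (ι) (ι) F).det ≠ 0 := by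
    apply Matrix.det_ne_zero_of_right_inverse
      (B := ((g⁻¹ : GL (ι) F) : Matrix (ι) (ι) F))
    rw [← Units.val_mul, mul_inv_cancel, Units.val_one]
  have hdet : A₀'.det ≠ 0 := by
    intro h0
    apply hdet0
    rw [hmap, Matrix.det_smul]
    have : (A₀'.map (F₀.subtype : F₀ →+* F)).det = (F₀.subtype : F₀ →+* F) A₀'.det := by
      rw [RingHom.map_det]
      rfl
    rw [this, h0, map_zero, mul_zero]
  refine ⟨Matrix.GeneralLinearGroup.mkOfDetNeZero A₀' hdet, Units.mk0 μ hμ, ?_⟩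
  rw [hmap]
  rfl

/-- (A1) -/
theorem mem_sub1_of_maps {μ : F} (hμ : μ ≠ 0) (g : GL (ι) F)
    (h : ∀ x, RatV F₀ x → ∃ r, RatV F₀ r ∧ mv g x = μ • r) :
    g ∈ Cfsg.Geo.subfieldSubgroup F₀ (1 : GL (ι) F) := by
  apply mem_sub1_of_entries F₀ g μ hμ
  intro i j
  obtain ⟨r, hr, hgr⟩ := h (Pi.single j 1) (ratV_single j)
  refine ⟨r i, hr i, ?_⟩
  have h1 : (g : Matrix (ι) (ι) F) i j =
      (mv g (Pi.single j (1 : F))) i := by
    unfold mv
    simp [Matrix.mulVec, dotProduct, Pi.single_apply]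
  rw [h1, hgr, Pi.smul_apply, smul_eq_mul]

end Sub


theorem rt_mem_H0 [Fintype F] {F₀ : Subfield F} (h : QCtx F₀ Q) {u v : ι → F} (hu : RatV F₀ u)
    (hv : RatV F₀ v) {c : F} (hc : c ∈ F₀) : rt Q u v c ∈ H0 F₀ Q := by
  refine Subgroup.mem_inf.mpr ⟨?_, rt_mem_omega h.nd (by have := h.card; omega) u v c⟩
  by_cases hh : Q u = 0 ∧ Q v = 0 ∧ polar Q u v = 0
  · obtain ⟨hQu, hQv, huv⟩ := hh
    apply mem_sub1_of_maps F₀ one_ne_zero
    intro x hx
    refine ⟨mv (rt Q u v c) x, ?_, (one_smul _ _).symm⟩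
    rw [mv_rt hQu hQv huv]
    exact ratV_add hx (ratV_smul hc (ratV_sub (ratV_smul (ratV_polar h hu hx) hv)
      (ratV_smul (ratV_polar h hv hx) hu)))
  · rw [rt_of_not hh]
    exact one_mem _

end Cfsg.Agent.Lib.Helper19.OSub


end Cfsg.Agent.Lib.Helper11.Om11S
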