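import Mathlib
import Cfsg.Prelude.Def_ClassicalGeometry
import Cfsg.Prelude.Def_GeometricClasses
import Cfsg.Agent.Lib.Helper11.Om11S.H19_OSubDefs
import Cfsg.Agent.Lib.Helper11.Om11S.H19_OSubBasic

set_option linter.dupNamespace false
set_option linter.ambiguousOpen false

namespace Cfsg.Agent.Lib.Helper11.Om11S

/-!
helper19: S5683 / S5702, leaf group EM: linear algebra of involutions in `GL` (characteristic not 2).
-/

set_option autoImplicit false
set_option linter.unusedSectionVars false
set_option linter.unusedVariables false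

namespace Cfsg.Agent.Lib.Helper19.OSub
open Cfsg.Agent.Lib.Helper19.OSub
open Cfsg Matrix QuadraticMap Module
open _root_.Cfsg

variable {ι : Type} [Fintype ι] [DecidableEq ι] {F : Type*} [Field F]
  {F₀ : Subfield F} {Q : QuadraticForm F (ι → F)}

theorem mem_Eig (z : GL ι F) (ε : F) (x : ι → F) : x ∈ Eig z ε ↔ mv z x = ε • x := by
  unfold Eig
  rw [Module.End.mem_eigenspace_iff, Matrix.toLin'_apply]

theorem mv_sq {z : GL ι F} (hz : z * z = 1) (x : ι → F) : mv z (mv z x) = x := by
  rw [← mv_mul, hz, mv_one]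

theorem two_smul_eq_zero (h2 : (2 : F) ≠ 0) {v : ι → F} (h : v = -v) : v = 0 := by
  have : (2 : F) • v = 0 := by
    rw [two_smul]
    nth_rewrite 2 [h]
    exact add_neg_cancel v
  exact (smul_eq_zero.mp this).resolve_left h2

/-- EM1 -/
theorem finrank_eig_add (h2 : (2 : F) ≠ 0) {z : GL ι F} (hz : z * z = 1) :
    finrank F (Eig z 1) + finrank F (Eig z (-1)) = Fintype.card ι := by
  have hc : IsCompl (Eig z 1) (Eig z (-1)) := by
    constructor
    · rw [Submodule.disjoint_def]
      intro x h1 h2'
      rw [mem_Eig] at h1 h2'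
      rw [one_smul] at h1
      rw [h1, neg_one_smul] at h2'
      exact two_smul_eq_zero h2 h2'
    · rw [codisjoint_iff, eq_top_iff]
      intro x _
      have e : x = (2 : F)⁻¹ • (x + mv z x) + (2 : F)⁻¹ • (x - mv z x) := by
        rw [← smul_add]
        have : x + mv z x + (x - mv z x) = (2 : F) • x := by rw [two_smul]; abel
        rw [this, smul_smul, inv_mul_cancel₀ h2, one_smul]
      rw [e]
      apply Submodule.add_mem_sup
      · apply Submodule.smul_mem
        rw [mem_Eig, mv_add, mv_sq hz, one_smul, add_comm]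
      · apply Submodule.smul_mem
        rw [mem_Eig, mv_sub, mv_sq hz, neg_one_smul, neg_sub]
  rw [Submodule.finrank_add_eq_of_isCompl hc, Module.finrank_fintype_fun_eq_card]

/-- EM2 -/
theorem finrank_eig_conj (g z : GL ι F) (ε : F) :
    finrank F (Eig (g * z * g⁻¹) ε) = finrank F (Eig z ε) := by
  let e : (ι → F) ≃ₗ[F] (ι → F) :=
    LinearEquiv.ofLinearMap (Matrix.toLin' (g : Matrix ι ι F)) (Matrix.toLin' ((g⁻¹ : GL ι F) : Matrix ι ι F))
      (by
        apply LinearMap.ext
        intro x
        simp only [LinearMap.comp_apply, Matrix.toLin'_apply, LinearMap.id_apply]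
        exact mv_mv_inv g x)
      (by
        apply LinearMap.ext
        intro x
        simp only [LinearMap.comp_apply, Matrix.toLin'_apply, LinearMap.id_apply]
        exact mv_inv_mv g x)
  have hmap : Eig (g * z * g⁻¹) ε = (Eig z ε).map (e : (ι → F) →ₗ[F] (ι → F)) := by
    ext x
    rw [Submodule.mem_map, mem_Eig]
    constructor
    · intro hx
      refine ⟨mv g⁻¹ x, ?_, ?_⟩
      · rw [mem_Eig]
        have := congrArg (mv g⁻¹) hx
        rw [mv_mul, mv_mul, mv_inv_mv, mv_smul] at this
        exact this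
      · show mv g (mv g⁻¹ x) = x
        exact mv_mv_inv g x
    · rintro ⟨y, hy, rfl⟩
      rw [mem_Eig] at hy
      show mv (g * z * g⁻¹) (mv g y) = ε • mv g y
      rw [mv_mul, mv_mul, mv_inv_mv, hy, mv_smul]
  rw [hmap]
  exact LinearEquiv.finrank_map_eq e _

/-- EM3 -/
theorem eig_neg_ne_bot (h2 : (2 : F) ≠ 0) {z : GL ι F} (hz : z * z = 1) (hz1 : z ≠ 1) :
    1 ≤ finrank F (Eig z (-1)) := by
  have : ∃ x, mv z x ≠ x := by
    by_contra hcon
    push Not at hcon
    apply hz1
    apply gl_ext
    intro x
    rw [hcon x, mv_one]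
  obtain ⟨x, hx⟩ := this
  rw [Submodule.one_le_finrank_iff]
  intro hbot
  have hmem : x - mv z x ∈ Eig z (-1) := by
    rw [mem_Eig, mv_sub, mv_sq hz, neg_one_smul, neg_sub]
  rw [hbot, Submodule.mem_bot, sub_eq_zero] at hmem
  exact hx hmem.symm

/-- EM4: commuting involutions with disjoint supports -/
theorem finrank_eig_mul (h2 : (2 : F) ≠ 0) {y z : GL ι F} (hy : y * y = 1) (hz : z * z = 1)
    (hc : z * y = y * z) (hd : ∀ v, mv y v = -v → mv z v = v) :
    finrank F (Eig (y * z) (-1)) = finrank F (Eig y (-1)) + finrank F (Eig z (-1)) := by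
  have hzy : ∀ v, mv z (mv y v) = mv y (mv z v) := by
    intro v
    rw [← mv_mul, ← mv_mul, hc]
  -- vectors negated by `z` are fixed by `y`
  have hfix : ∀ v, mv z v = -v → mv y v = v := by
    intro v hv
    have hu : mv y (v - mv y v) = -(v - mv y v) := by
      rw [mv_sub, mv_sq hy, neg_sub]
    have h1 := hd _ hu
    rw [mv_sub, hzy, hv, mv_neg] at h1
    have h3 : v - mv y v = -(v - mv y v) := by
      calc v - mv y v = -v - -mv y v := h1.symm
        _ = -(v - mv y v) := by abel
    have := two_smul_eq_zero h2 h3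
    exact (sub_eq_zero.mp this).symm
  have hdisj : Disjoint (Eig y (-1)) (Eig z (-1)) := by
    rw [Submodule.disjoint_def]
    intro v hv1 hv2
    rw [mem_Eig, neg_one_smul] at hv1 hv2
    have := hd v hv1
    rw [hv2] at this
    exact two_smul_eq_zero h2 this.symm
  have hsup : Eig (y * z) (-1) = Eig y (-1) ⊔ Eig z (-1) := by
    apply le_antisymm
    · intro v hv
      rw [mem_Eig, neg_one_smul, mv_mul] at hv
      have e : v = (2 : F)⁻¹ • (v - mv y v) + (2 : F)⁻¹ • (v + mv y v) := by
        rw [← smul_add]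
        have : v - mv y v + (v + mv y v) = (2 : F) • v := by rw [two_smul]; abel
        rw [this, smul_smul, inv_mul_cancel₀ h2, one_smul]
      rw [e]
      have ha : mv y (v - mv y v) = -(v - mv y v) := by
        rw [mv_sub, mv_sq hy, neg_sub]
      apply Submodule.add_mem_sup
      · apply Submodule.smul_mem
        rw [mem_Eig, neg_one_smul]
        exact ha
      · apply Submodule.smul_mem
        rw [mem_Eig, neg_one_smul]
        -- z (v + y v) = z v + y z v = z v - v; and y z v = -v gives z v = - y v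
        have hzv : mv z v = -mv y v := by
          have := congrArg (mv y) hv
          rw [mv_sq hy, mv_neg] at this
          exact this
        rw [mv_add, hzy, hv, hzv]
        abel
    · apply sup_le
      · intro v hv
        rw [mem_Eig, neg_one_smul] at hv ⊢
        rw [mv_mul, hd v hv, hv]
      · intro v hv
        rw [mem_Eig, neg_one_smul] at hv ⊢
        rw [mv_mul, hv, mv_neg, hfix v hv]
  rw [hsup]
  have := Submodule.finrank_sup_add_finrank_inf_eq (Eig y (-1)) (Eig z (-1))
  rw [disjoint_iff.mp hdisj, finrank_bot, add_zero] at this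
  exact this

theorem eig_one_neg (h2 : (2 : F) ≠ 0) : finrank F (Eig (1 : GL ι F) (-1)) = 0 := by
  have : Eig (1 : GL ι F) (-1) = ⊥ := by
    rw [eq_bot_iff]
    intro v hv
    rw [mem_Eig, mv_one, neg_one_smul] at hv
    rw [Submodule.mem_bot]
    exact two_smul_eq_zero h2 hv
  rw [this, finrank_bot]

/-- products of commuting rational involutions -/
theorem ratInv_mul {y z : GL ι F} (hy : RatInv F₀ Q y) (hz : RatInv F₀ Q z) (hc : z * y = y * z) :
    RatInv F₀ Q (y * z) := by
  refine ⟨?_, Subgroup.mul_mem _ hy.iso hz.iso, ?_⟩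
  · calc y * z * (y * z) = y * (z * y) * z := by group
      _ = y * (y * z) * z := by rw [hc]
      _ = (y * y) * (z * z) := by group
      _ = 1 := by rw [hy.sq, hz.sq, one_mul]
  · intro x hx
    rw [mv_mul]
    exact hy.rat _ (hz.rat _ hx)

theorem ratInv_one : RatInv F₀ Q (1 : GL ι F) := by
  refine ⟨one_mul 1, Subgroup.one_mem _, ?_⟩
  intro x hx
  rw [mv_one]
  exact hx

end Cfsg.Agent.Lib.Helper19.OSub


end Cfsg.Agent.Lib.Helper11.Om11S
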