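import Mathlib
import Cfsg.Prelude.Def_ClassicalGeometry
import Cfsg.Prelude.Def_GeometricClasses
import Cfsg.Agent.Lib.Helper5.TSMax
import Cfsg.Agent.Lib.Helper11.Om11S.H19_OSubDefs
import Cfsg.Agent.Lib.Helper11.Om11S.H19_OSubBasic
import Cfsg.Agent.Lib.Helper11.Om11S.H19_OSubDescent
import Cfsg.Agent.Lib.Helper11.Om11S.H19_OSubEM
import Cfsg.Agent.Lib.Helper15.QuadClass

set_option linter.dupNamespace false
set_option linter.ambiguousOpen false

namespace Cfsg.Agent.Lib.Helper11.Om11S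

/-!
helper24: leaf G0 (`exists_nd_eig`) of helper19's S5683 market: the rational eigenvectors of a rational
isometric involution form a nondegenerate `F₀`-space whose dimension bounds the `F`-dimension of the
eigenspace.
-/

set_option autoImplicit false
set_option linter.unusedSectionVars false
set_option linter.unusedVariables false

namespace Cfsg.Agent.Lib.Helper24.OSubLeaf19
open Cfsg.Agent.Lib.Helper24.OSubLeaf19
open Cfsg Matrix QuadraticMap Module Cfsg.Agent.Lib.Helper25.Siegel Cfsg.Agent.Lib.Helper19.OSub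
open _root_.Cfsg _root_.Cfsg.Agent.Lib.Helper25.Siegel

variable {ι : Type} [Fintype ι] [DecidableEq ι] {F : Type*} [Field F] [Fintype F]
  {F₀ : Subfield F} {Q : QuadraticForm F (ι → F)} {M : Subgroup (GL ι F)}

theorem g0_up_sum {κ : Type*} (s : Finset κ) (f : κ → (ι → F₀)) :
    up F₀ (∑ k ∈ s, f k) = ∑ k ∈ s, up F₀ (f k) := by
  classical
  induction s using Finset.induction_on with
  | empty => simp [up_zero]
  | insert a s ha ih => rw [Finset.sum_insert ha, Finset.sum_insert ha, up_add, ih]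

/-- the rational `ε`-eigenvectors of `z`, as an `F₀`-subspace -/
def g0W (F₀ : Subfield F) (z : GL ι F) (ε : F) : Submodule F₀ (ι → F₀) where
  carrier := {u | mv z (up F₀ u) = ε • up F₀ u}
  add_mem' := by
    intro a b ha hb
    show mv z (up F₀ (a + b)) = ε • up F₀ (a + b)
    rw [up_add, mv_add, smul_add]
    have ha' : mv z (up F₀ a) = ε • up F₀ a := ha
    have hb' : mv z (up F₀ b) = ε • up F₀ b := hb
    rw [ha', hb']
  zero_mem' := by
    show mv z (up F₀ 0) = ε • up F₀ 0
    rw [up_zero, mv_zero, smul_zero]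
  smul_mem' := by
    intro c a ha
    show mv z (up F₀ (c • a)) = ε • up F₀ (c • a)
    have ha' : mv z (up F₀ a) = ε • up F₀ a := ha
    rw [up_smul, mv_smul, ha', smul_comm]

theorem g0_mem_W {z : GL ι F} {ε : F} {u : ι → F₀} :
    u ∈ g0W F₀ z ε ↔ mv z (up F₀ u) = ε • up F₀ u := Iff.rfl

/-- the projection `x ↦ (x + ε z x)/2` of a rational vector is a rational `ε`-eigenvector -/
theorem g0_proj (h2 : (2 : F) ≠ 0) {z : GL ι F} (hz : RatInv F₀ Q z) {ε : F} (hεF : ε ∈ F₀)
    (hεε : ε * ε = 1) {x : ι → F} (hx : RatV F₀ x) :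
    ∃ w ∈ g0W F₀ z ε, up F₀ w = (2 : F)⁻¹ • (x + ε • mv z x) := by
  have h2F : (2 : F) ∈ F₀ := by
    have : (2 : F) = 1 + 1 := by norm_num
    rw [this]
    exact F₀.add_mem F₀.one_mem F₀.one_mem
  have hrat : RatV F₀ ((2 : F)⁻¹ • (x + ε • mv z x)) :=
    ratV_smul (F₀.inv_mem h2F) (ratV_add hx (ratV_smul hεF (hz.rat x hx)))
  obtain ⟨w, hw⟩ := exists_up hrat
  refine ⟨w, ?_, hw⟩
  rw [g0_mem_W, hw, mv_smul, mv_add, mv_smul, mv_sq hz.sq, smul_comm ε (2 : F)⁻¹]
  congr 1
  rw [smul_add, smul_smul ε ε, hεε, one_smul, add_comm]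

/-- G0: the rational eigenvectors of a rational involution form a nondegenerate `F₀`-space of full dimension -/
theorem exists_nd_eig (h : QCtx F₀ Q) (h2 : (2 : F) ≠ 0) {z : GL ι F} (hz : RatInv F₀ Q z) {ε : F}
    (hε : ε = 1 ∨ ε = -1) :
    ∃ W : Submodule F₀ (ι → F₀), Cfsg.Agent.Lib.Helper15.NdOn (Q0 h) W ∧
      (∀ u ∈ W, mv z (up F₀ u) = ε • up F₀ u) ∧ finrank F (Eig z ε) ≤ finrank F₀ W := by
  classical
  have hεF : ε ∈ F₀ := by
    rcases hε with rfl | rfl
    · exact F₀.one_mem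
    · exact F₀.neg_mem F₀.one_mem
  have hεε : ε * ε = 1 := by
    rcases hε with rfl | rfl <;> ring
  refine ⟨g0W F₀ z ε, ?_, fun u hu => hu, ?_⟩
  · -- nondegeneracy
    intro x hxW hx
    have hnd := Q0_nondeg h
    apply hnd.1 x
    intro v
    rw [polarBilin_apply_apply, polar_Q0_eq_zero]
    obtain ⟨w, hwW, hw⟩ := g0_proj h2 hz hεF hεε (ratV_up v)
    have h0 : polar Q (up F₀ x) (up F₀ w) = 0 := (polar_Q0_eq_zero h x w).mp (hx w hwW)
    have hxe : mv z (up F₀ x) = ε • up F₀ x := hxW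
    have h1 : polar Q (up F₀ x) (up F₀ v) = ε * polar Q (up F₀ x) (mv z (up F₀ v)) := by
      rw [← iso_polar hz.iso (up F₀ x) (up F₀ v), hxe, polar_smul_left, smul_eq_mul]
    rw [hw, polar_smul_right, polar_add_right, polar_smul_right, smul_eq_mul, smul_eq_mul, ← h1] at h0
    have h3 : polar Q (up F₀ x) (up F₀ v) + polar Q (up F₀ x) (up F₀ v) = 0 := by
      rcases mul_eq_zero.mp h0 with h4 | h4
      · exact absurd h4 (inv_ne_zero h2)
      · exact h4
    have h4 : (2 : F) * polar Q (up F₀ x) (up F₀ v) = 0 := by rw [two_mul]; exact h3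
    rcases mul_eq_zero.mp h4 with h5 | h5
    · exact absurd h5 h2
    · exact h5
  · -- dimension
    let b := Module.finBasis F₀ (g0W F₀ z ε)
    let S : Fin (finrank F₀ (g0W F₀ z ε)) → (ι → F) := fun k => up F₀ ((b k : g0W F₀ z ε) : ι → F₀)
    have hWS : ∀ w ∈ g0W F₀ z ε, up F₀ w ∈ Submodule.span F (Set.range S) := by
      intro w hw
      have hrep := b.sum_repr ⟨w, hw⟩
      have hrep' : w = ∑ k, (b.repr ⟨w, hw⟩ k) • ((b k : g0W F₀ z ε) : ι → F₀) := by
        have := congrArg (Subtype.val) hrep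
        simp only [Submodule.coe_sum, Submodule.coe_smul] at this
        exact this.symm
      rw [hrep', g0_up_sum]
      apply Submodule.sum_mem
      intro k _
      rw [up_smul]
      exact Submodule.smul_mem _ _ (Submodule.subset_span ⟨k, rfl⟩)
    have hle : Eig z ε ≤ Submodule.span F (Set.range S) := by
      intro x hx
      rw [mem_Eig] at hx
      let L : (ι → F) →ₗ[F] (ι → F) :=
        (2 : F)⁻¹ • (LinearMap.id + ε • Matrix.mulVecLin (z : Matrix ι ι F))
      have hL : ∀ y, L y = (2 : F)⁻¹ • (y + ε • mv z y) := fun y => rfl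
      have hLx : L x = x := by
        rw [hL, hx, smul_smul, hεε, one_smul, ← two_smul F x, smul_smul, inv_mul_cancel₀ h2, one_smul]
      rw [← hLx, sum_single x, map_sum]
      apply Submodule.sum_mem
      intro i _
      rw [map_smul]
      apply Submodule.smul_mem
      obtain ⟨w, hwW, hw⟩ := g0_proj h2 hz hεF hεε (ratV_single (F₀ := F₀) i)
      rw [hL, ← hw]
      exact hWS w hwW
    calc finrank F (Eig z ε) ≤ finrank F (Submodule.span F (Set.range S)) :=
          Submodule.finrank_mono hle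
      _ ≤ Fintype.card (Fin (finrank F₀ (g0W F₀ z ε))) := finrank_range_le_card S
      _ = finrank F₀ (g0W F₀ z ε) := Fintype.card_fin _

end Cfsg.Agent.Lib.Helper24.OSubLeaf19


end Cfsg.Agent.Lib.Helper11.Om11S
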