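import Mathlib
import Cfsg.Prelude.Def_ClassicalGeometry
import Cfsg.Prelude.Def_GeometricClasses
import Cfsg.Agent.Lib.Helper5.TSMax
import Cfsg.Agent.Lib.Helper5.LSubC
import Cfsg.Agent.Lib.Helper11.Om11S.H19_OSubDefs
import Cfsg.Agent.Lib.Helper11.Om11S.H19_OSubBasic

set_option linter.dupNamespace false
set_option linter.ambiguousOpen false

namespace Cfsg.Agent.Lib.Helper11.Om11S

/-!
# S5683 leaf RA: involutions of the standard subfield group act rationally when `[F : F₀] ≥ 3` is prime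
-/

set_option autoImplicit false
set_option linter.unusedSectionVars false
set_option linter.unusedVariables false

namespace Cfsg.Agent.Lib.Helper23.OSubLeaf
open Cfsg.Agent.Lib.Helper23.OSubLeaf
open Cfsg Matrix QuadraticMap Module Cfsg.Agent.Lib.Helper25.Siegel Cfsg.Agent.Lib.Helper19.OSub
open _root_.Cfsg _root_.Cfsg.Agent.Lib.Helper25.Siegel
open scoped commutatorElement

variable {ι : Type} [Fintype ι] [DecidableEq ι] {F : Type*} [Field F] [Fintype F]
  {F₀ : Subfield F} {Q : QuadraticForm F (ι → F)} {M : Subgroup (GL ι F)}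

/-- RA: involutions of the subfield group act rationally when `[F : F₀] ≥ 3` is prime -/
theorem ratact (hp : (Module.finrank F₀ F).Prime) (h3 : 3 ≤ Module.finrank F₀ F) {z : GL ι F}
    (hz : z ∈ Cfsg.Geo.subfieldSubgroup F₀ (1 : GL ι F)) (hzz : z * z = 1) :
    ∀ x, RatV F₀ x → RatV F₀ (mv z x) := by
  obtain ⟨μ, hμ0, hmap⟩ := rat_of_mem_sub1 F₀ z hz
  intro x hx
  by_cases hne : Nonempty ι
  · obtain ⟨i0⟩ := hne
    obtain ⟨r, hr, e⟩ := hmap (Pi.single i0 1) (ratV_single i0)
    obtain ⟨r', hr', e'⟩ := hmap r hr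
    have h1 : (Pi.single i0 (1 : F) : ι → F) = (μ * μ) • r' := by
      have h := mv_mul z z (Pi.single i0 (1 : F))
      rw [hzz, mv_one, e, mv_smul, e', smul_smul] at h
      exact h
    have h2 := congrFun h1 i0
    rw [Pi.single_eq_same, Pi.smul_apply, smul_eq_mul] at h2
    have hμμ : μ * μ ∈ F₀ := by
      have e2 : μ * μ = (r' i0)⁻¹ := eq_inv_of_mul_eq_one_left h2.symm
      rw [e2]
      exact F₀.inv_mem (hr' i0)
    have hμ : μ ∈ F₀ := Cfsg.Agent.Lib.Helper5.LSub.sq_mem_imp_mem hp h3 hμμ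
    obtain ⟨rx, hrx, ex⟩ := hmap x hx
    rw [ex]
    exact ratV_smul hμ hrx
  · intro i
    exact absurd ⟨i⟩ hne

end Cfsg.Agent.Lib.Helper23.OSubLeaf


end Cfsg.Agent.Lib.Helper11.Om11S
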