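import Mathlib
import Cfsg.Prelude.Def_ClassicalGeometry
import Cfsg.Prelude.Def_GeometricClasses
import Cfsg.Agent.Lib.Helper11.Om11S.H19_OSubDefs
import Cfsg.Agent.Lib.Helper11.Om11S.H19_OSubBasic

set_option linter.dupNamespace false
set_option linter.ambiguousOpen false

namespace Cfsg.Agent.Lib.Helper11.Om11S

/-!
S5683 / S5702 (helper19 market), leaf I4 `mv_inv4`.
-/

set_option autoImplicit false
set_option linter.unusedSectionVars false
set_option linter.unusedVariables false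
set_option linter.unusedSimpArgs false

namespace Cfsg.Agent.Lib.Helper20.OSubLeaf
open Cfsg.Agent.Lib.Helper20.OSubLeaf
open Cfsg Matrix QuadraticMap Module Cfsg.Agent.Lib.Helper25.Siegel Cfsg.Agent.Lib.Helper19.OSub
open _root_.Cfsg _root_.Cfsg.Agent.Lib.Helper25.Siegel
open scoped commutatorElement

variable {ι : Type} [Fintype ι] [DecidableEq ι] {F : Type*} [Field F] [Fintype F]
  {F₀ : Subfield F} {Q : QuadraticForm F (ι → F)} {M : Subgroup (GL ι F)}

/-- the element `w = X Y X` of `inv4 = w ^ 2` -/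
lemma mv_inv4_half {e₁ f₁ e₂ f₂ : ι → F} (he₁ : Q e₁ = 0) (hf₁ : Q f₁ = 0) (he₂ : Q e₂ = 0)
    (hf₂ : Q f₂ = 0) (h11 : polar Q e₁ f₁ = 1) (h22 : polar Q e₂ f₂ = 1) (hee : polar Q e₁ e₂ = 0)
    (hff : polar Q f₁ f₂ = 0) (h12 : polar Q e₁ f₂ = 0) (h21 : polar Q e₂ f₁ = 0) (x : ι → F) :
    mv (rt Q e₁ e₂ 1 * rt Q f₁ f₂ 1 * rt Q e₁ e₂ 1) x =
      x + (-(polar Q e₂ x) - polar Q f₁ x) • e₁ + (polar Q e₁ x - polar Q f₂ x) • e₂
        - (polar Q f₂ x + polar Q e₁ x) • f₁ + (polar Q f₁ x - polar Q e₂ x) • f₂ := by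
  have g11 : polar Q e₁ e₁ = 0 := polar_self_sing he₁
  have g22 : polar Q e₂ e₂ = 0 := polar_self_sing he₂
  have g33 : polar Q f₁ f₁ = 0 := polar_self_sing hf₁
  have g44 : polar Q f₂ f₂ = 0 := polar_self_sing hf₂
  have h11' : polar Q f₁ e₁ = 1 := by rw [polar_comm]; exact h11
  have h22' : polar Q f₂ e₂ = 1 := by rw [polar_comm]; exact h22
  have hee' : polar Q e₂ e₁ = 0 := by rw [polar_comm]; exact hee
  have hff' : polar Q f₂ f₁ = 0 := by rw [polar_comm]; exact hff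
  have h12' : polar Q f₂ e₁ = 0 := by rw [polar_comm]; exact h12
  have h21' : polar Q f₁ e₂ = 0 := by rw [polar_comm]; exact h21
  rw [mv_mul, mv_mul, mv_rt he₁ he₂ hee, mv_rt hf₁ hf₂ hff, mv_rt he₁ he₂ hee]
  simp only [polar_add_right, polar_sub_right, polar_smul_right, smul_eq_mul, g11, g22, g33, g44,
    h11, h11', h22, h22', hee, hee', hff, hff', h12, h12', h21, h21', mul_zero, mul_one, add_zero,
    sub_zero, zero_sub, one_smul, one_mul, zero_add]
  module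

/-- I4: the involution `inv4` -/
theorem mv_inv4 {e₁ f₁ e₂ f₂ : ι → F} (he₁ : Q e₁ = 0) (hf₁ : Q f₁ = 0) (he₂ : Q e₂ = 0)
    (hf₂ : Q f₂ = 0) (h11 : polar Q e₁ f₁ = 1) (h22 : polar Q e₂ f₂ = 1) (hee : polar Q e₁ e₂ = 0)
    (hff : polar Q f₁ f₂ = 0) (h12 : polar Q e₁ f₂ = 0) (h21 : polar Q e₂ f₁ = 0) (x : ι → F) :
    mv (inv4 Q e₁ f₁ e₂ f₂) x = x - (2 : F) • (polar Q f₁ x • e₁ + polar Q e₁ x • f₁ +
      polar Q f₂ x • e₂ + polar Q e₂ x • f₂) := by
  have g11 : polar Q e₁ e₁ = 0 := polar_self_sing he₁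
  have g22 : polar Q e₂ e₂ = 0 := polar_self_sing he₂
  have g33 : polar Q f₁ f₁ = 0 := polar_self_sing hf₁
  have g44 : polar Q f₂ f₂ = 0 := polar_self_sing hf₂
  have h11' : polar Q f₁ e₁ = 1 := by rw [polar_comm]; exact h11
  have h22' : polar Q f₂ e₂ = 1 := by rw [polar_comm]; exact h22
  have hee' : polar Q e₂ e₁ = 0 := by rw [polar_comm]; exact hee
  have hff' : polar Q f₂ f₁ = 0 := by rw [polar_comm]; exact hff
  have h12' : polar Q f₂ e₁ = 0 := by rw [polar_comm]; exact h12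
  have h21' : polar Q f₁ e₂ = 0 := by rw [polar_comm]; exact h21
  unfold inv4
  rw [pow_two, mv_mul, mv_inv4_half he₁ hf₁ he₂ hf₂ h11 h22 hee hff h12 h21 x,
    mv_inv4_half he₁ hf₁ he₂ hf₂ h11 h22 hee hff h12 h21]
  simp only [polar_add_right, polar_sub_right, polar_smul_right, smul_eq_mul, g11, g22, g33, g44,
    h11, h11', h22, h22', hee, hee', hff, hff', h12, h12', h21, h21', mul_zero, mul_one, add_zero,
    sub_zero, zero_sub, one_smul, one_mul, zero_add]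
  module

end Cfsg.Agent.Lib.Helper20.OSubLeaf


end Cfsg.Agent.Lib.Helper11.Om11S
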