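import Mathlib
import Cfsg.Prelude.Def_ClassicalGeometry
import Cfsg.Prelude.Def_GeometricClasses
import Cfsg.Agent.Lib.Helper5.TSMax
import Cfsg.Agent.Lib.Helper11.Om11S.H19_OSubDefs
import Cfsg.Agent.Lib.Helper11.Om11S.H19_OSubBasic
import Cfsg.Agent.Lib.Helper11.Om11S.H26_OSubN1
import Cfsg.Agent.Lib.Helper11.Om11S.H26_OSubL1a

set_option linter.dupNamespace false
set_option linter.ambiguousOpen false

namespace Cfsg.Agent.Lib.Helper11.Om11S

/-!
S5683 / S5702 (helper19's market), leaf L1b (`mem_of_rat_point`) in core form: T1, L1a, RD, F1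
enter as explicit hypotheses (`T1Stmt`, `L1aStmt`, `RDStmt`, a frame).
-/

set_option autoImplicit false
set_option linter.unusedSectionVars false
set_option linter.unusedVariables false
set_option linter.unusedSimpArgs false

namespace Cfsg.Agent.Lib.Helper26.OSubLeaf
open Cfsg.Agent.Lib.Helper26.OSubLeaf
open Cfsg Matrix QuadraticMap Module Cfsg.Agent.Lib.Helper25.Siegel Cfsg.Agent.Lib.Helper19.OSub
open _root_.Cfsg _root_.Cfsg.Agent.Lib.Helper25.Siegel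
open scoped commutatorElement

variable {ι : Type} [Fintype ι] [DecidableEq ι] {F : Type*} [Field F] [Fintype F]
  {F₀ : Subfield F} {Q : QuadraticForm F (ι → F)} {M : Subgroup (GL ι F)}

/-- statement of leaf L1a (`rat_on_perp`) -/
def L1aStmt (F₀ : Subfield F) (Q : QuadraticForm F (ι → F)) (M : Subgroup (GL ι F)) : Prop :=
  ∀ {g : GL ι F}, g ∈ M → ∀ {a : ι → F}, RatV F₀ a → a ≠ 0 → Q a = 0 → ∀ {l : F},
    mv g a = l • a → l ^ 2 ∈ F₀ ∧ ∀ x, RatV F₀ x → polar Q a x = 0 → RatV F₀ (l • mv g x)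

/-- L1b in the standard position `a = a' = e₀` -/
theorem l1b_std (h : Ctx F₀ Q M) (hL1a : L1aStmt F₀ Q M) (hRD : RDStmt F₀ Q)
    (fr : Frame F₀ Q 5) {g : GL ι F} (hg : g ∈ M) {l : F} (hge : mv g (fr.e 0) = l • fr.e 0) :
    g ∈ Cfsg.Geo.subfieldSubgroup F₀ (1 : GL ι F) := by
  have hgI : g ∈ Cfsg.isometryGroup F ⇑Q := omegaGL_le_iso (h.le_om hg)
  have he0 := fr_e_ne_zero fr 0
  have hl : l ≠ 0 := l_ne_zero he0 hge
  obtain ⟨hl2, hφ⟩ := hL1a hg (fr.rat_e 0) he0 (fr.Qe 0) hge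
  rw [pow_two] at hl2
  have hginv : mv g⁻¹ (fr.e 0) = l⁻¹ • fr.e 0 := by
    have h1 : mv g⁻¹ (mv g (fr.e 0)) = fr.e 0 := mv_inv_mv g _
    rw [hge, mv_smul] at h1
    calc mv g⁻¹ (fr.e 0) = l⁻¹ • (l • mv g⁻¹ (fr.e 0)) := by
          rw [smul_smul, inv_mul_cancel₀ hl, one_smul]
      _ = l⁻¹ • fr.e 0 := by rw [h1]
  obtain ⟨-, hψ⟩ := hL1a (M.inv_mem hg) (fr.rat_e 0) he0 (fr.Qe 0) hginv
  obtain ⟨y, hy⟩ : ∃ y, y = l • mv g (fr.f 0) := ⟨_, rfl⟩
  -- products of `y` with rational vectors orthogonal to `e₀`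
  have hy1 : ∀ x', RatV F₀ x' → polar Q (fr.e 0) x' = 0 → polar Q x' y ∈ F₀ := by
    intro x' hx' h0x'
    have e : polar Q x' y = l * l * polar Q (l⁻¹ • mv g⁻¹ x') (fr.f 0) := by
      rw [hy, polar_smul_right, polar_smul_left, smul_eq_mul, smul_eq_mul]
      have := iso_polar hgI (mv g⁻¹ x') (fr.f 0)
      rw [mv_mv_inv] at this
      rw [this]
      field_simp
    rw [e]
    exact F₀.mul_mem hl2 (ratV_polar h.toQCtx (hψ x' hx' h0x') (fr.rat_f 0))
  obtain ⟨θ, hθ⟩ : ∃ θ, θ = polar Q (fr.f 0) y := ⟨_, rfl⟩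
  have hy'r : RatV F₀ (y - θ • fr.e 0) := by
    apply hRD
    intro x hx
    have hb : polar Q (fr.e 0) x ∈ F₀ := ratV_polar h.toQCtx (fr.rat_e 0) hx
    have hx' : RatV F₀ (x - polar Q (fr.e 0) x • fr.f 0) :=
      ratV_sub hx (ratV_smul hb (fr.rat_f 0))
    have h0x' : polar Q (fr.e 0) (x - polar Q (fr.e 0) x • fr.f 0) = 0 := by
      rw [polar_sub_right, polar_smul_right, fr_ef_same]
      simp
    have := hy1 _ hx' h0x'
    have e : polar Q x (y - θ • fr.e 0) = polar Q (x - polar Q (fr.e 0) x • fr.f 0) y := by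
      rw [polar_sub_right, polar_smul_right, polar_sub_left, polar_smul_left,
        polar_comm Q x (fr.e 0), ← hθ]
      simp only [smul_eq_mul]
      ring
    rw [e]
    exact this
  have hQy : Q y = 0 := by rw [hy, phi_Q hgI, fr.Qf 0, mul_zero]
  have hye : polar Q y (fr.e 0) = 1 := by
    rw [hy, phi_polar_e hgI hl hge, fr_fe_same]
  have hθ0 : θ ∈ F₀ := by
    have e : y = (y - θ • fr.e 0) + θ • fr.e 0 := by abel
    have hq : Q y = Q (y - θ • fr.e 0) + θ := by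
      conv_lhs => rw [e]
      rw [Cfsg.Agent.Lib.Helper25.MaxTS.Q_add_smul, fr.Qe 0, polar_sub_left, polar_smul_left, hye,
        polar_self_sing (fr.Qe 0)]
      simp
    rw [hQy] at hq
    have : θ = -Q (y - θ • fr.e 0) := by linear_combination -hq
    rw [this]
    exact F₀.neg_mem (h.ratQ _ hy'r)
  have hyr : RatV F₀ y := by
    have e : y = (y - θ • fr.e 0) + θ • fr.e 0 := by abel
    rw [e]
    exact ratV_add hy'r (ratV_smul hθ0 (fr.rat_e 0))
  -- all rational vectors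
  apply mem_sub1_of_maps F₀ (μ := l⁻¹) (inv_ne_zero hl)
  intro x hx
  refine ⟨l • mv g x, ?_, by rw [smul_smul, inv_mul_cancel₀ hl, one_smul]⟩
  have hb : polar Q (fr.e 0) x ∈ F₀ := ratV_polar h.toQCtx (fr.rat_e 0) hx
  have hx' : RatV F₀ (x - polar Q (fr.e 0) x • fr.f 0) :=
    ratV_sub hx (ratV_smul hb (fr.rat_f 0))
  have h0x' : polar Q (fr.e 0) (x - polar Q (fr.e 0) x • fr.f 0) = 0 := by
    rw [polar_sub_right, polar_smul_right, fr_ef_same]
    simp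
  have e : l • mv g x = l • mv g (x - polar Q (fr.e 0) x • fr.f 0) + polar Q (fr.e 0) x • y := by
    rw [hy, mv_sub, mv_smul]
    module
  rw [e]
  exact ratV_add (hφ _ hx' h0x') (ratV_smul hb hyr)

/-- L1b (core form) -/
theorem mem_of_rat_point_of (h : Ctx F₀ Q M) (hT1 : T1Stmt F₀ Q) (hL1a : L1aStmt F₀ Q M)
    (hRD : RDStmt F₀ Q) (hF1 : Nonempty (Frame F₀ Q 5)) {g : GL ι F} (hg : g ∈ M)
    {a a' : ι → F} (ha : RatV F₀ a) (ha0 : a ≠ 0) (hQa : Q a = 0) (ha' : RatV F₀ a') {l : F}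
    (hga : mv g a = l • a') : g ∈ Cfsg.Geo.subfieldSubgroup F₀ (1 : GL ι F) := by
  obtain ⟨fr⟩ := hF1
  have hgI : g ∈ Cfsg.isometryGroup F ⇑Q := omegaGL_le_iso (h.le_om hg)
  have hga0 : mv g a ≠ 0 := by
    intro h0
    have : mv g a = mv g 0 := by rw [h0, mv_zero]
    exact ha0 (mv_injective g this)
  have hl : l ≠ 0 := by
    intro hl
    rw [hl, zero_smul] at hga
    exact hga0 hga
  have ha'0 : a' ≠ 0 := by
    intro h0
    rw [h0, smul_zero] at hga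
    exact hga0 hga
  have hQa' : Q a' = 0 := by
    have := iso_Q hgI a
    rw [hga, QuadraticMap.map_smul, hQa, smul_eq_mul] at this
    exact (mul_eq_zero.mp this).resolve_left (mul_ne_zero hl hl)
  obtain ⟨k, hkH, -, -, s, hs, hs0, hka⟩ :=
    hT1 ha ha0 hQa (fr.rat_e 0) (fr_e_ne_zero fr 0) (fr.Qe 0)
  obtain ⟨k', hk'H, -, -, s', hs', hs'0, hk'a⟩ :=
    hT1 ha' ha'0 hQa' (fr.rat_e 0) (fr_e_ne_zero fr 0) (fr.Qe 0)
  have hkM : k ∈ M := h.le hkH
  have hk'M : k' ∈ M := h.le hk'H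
  have hinv : mv k⁻¹ (fr.e 0) = s⁻¹ • a := by
    have : mv k⁻¹ (mv k a) = a := mv_inv_mv k a
    rw [hka, mv_smul] at this
    rw [← this, smul_smul, inv_mul_cancel₀ hs0, one_smul]
  have hg'M : k' * g * k⁻¹ ∈ M := M.mul_mem (M.mul_mem hk'M hg) (M.inv_mem hkM)
  have hg'e : mv (k' * g * k⁻¹) (fr.e 0) = (s⁻¹ * l * s') • fr.e 0 := by
    rw [mv_mul, mv_mul, hinv, mv_smul, hga, mv_smul, mv_smul, hk'a, smul_smul, smul_smul]
  have hsub := l1b_std h hL1a hRD fr hg'M hg'e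
  have hkS : k ∈ Cfsg.Geo.subfieldSubgroup F₀ (1 : GL ι F) := (Subgroup.mem_inf.mp hkH).1
  have hk'S : k' ∈ Cfsg.Geo.subfieldSubgroup F₀ (1 : GL ι F) := (Subgroup.mem_inf.mp hk'H).1
  have e : g = k'⁻¹ * (k' * g * k⁻¹) * k := by group
  rw [e]
  exact Subgroup.mul_mem _ (Subgroup.mul_mem _ (Subgroup.inv_mem _ hk'S) hsub) hkS

end Cfsg.Agent.Lib.Helper26.OSubLeaf


end Cfsg.Agent.Lib.Helper11.Om11S
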