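import Mathlib
import Cfsg.Prelude.Def_ClassicalGeometry
import Cfsg.Prelude.Def_GeometricClasses
import Cfsg.Agent.Lib.Helper5.TSMax
import Cfsg.Agent.Lib.Helper11.Om11S.H19_OSubDefs
import Cfsg.Agent.Lib.Helper11.Om11S.H19_OSubBasic
import Cfsg.Agent.Lib.Helper11.Om11S.H19_OSubDescent
import Cfsg.Agent.Lib.Helper11.Om11S.H20_OSubSP
import Cfsg.Agent.Lib.Helper11.Om11S.H20_OSubDEC
import Cfsg.Agent.Lib.Helper11.Om11S.H18_OSubF12
import Cfsg.Agent.Lib.Helper11.Om11S.H27_OSubC2core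

set_option linter.dupNamespace false
set_option linter.ambiguousOpen false

namespace Cfsg.Agent.Lib.Helper11.Om11S

/-!
helper27: S5683 / S5702 leaf C2 (`omega_le_of_all`), exact signature of `notes/S5683_leaves.lean`.
-/

set_option autoImplicit false
set_option linter.unusedSectionVars false
set_option linter.unusedVariables false

namespace Cfsg.Agent.Lib.Helper27.OSubLeaf
open Cfsg.Agent.Lib.Helper27.OSubLeaf
open Cfsg Matrix QuadraticMap Module Cfsg.Agent.Lib.Helper25.Siegel Cfsg.Agent.Lib.Helper19.OSub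
open _root_.Cfsg _root_.Cfsg.Agent.Lib.Helper25.Siegel
open scoped commutatorElement

variable {ι : Type} [Fintype ι] [DecidableEq ι] {F : Type*} [Field F] [Fintype F]
  {F₀ : Subfield F} {Q : QuadraticForm F (ι → F)} {M : Subgroup (GL ι F)}

theorem spStmt : Cfsg.Agent.Lib.Helper27.OSubCore.SPStmt F₀ Q :=
  fun hQe₁ hQf₁ h11 h01 h01' _ hx =>
    Cfsg.Agent.Lib.Helper20.OSubLeaf.exists_sing_decomp hQe₁ hQf₁ h11 h01 h01' hx

theorem decStmt : Cfsg.Agent.Lib.Helper27.OSubCore.DECStmt Q :=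
  fun hQa l hl _ hQv hav _ hv =>
    Cfsg.Agent.Lib.Helper20.OSubLeaf.rt_list_prod hQa l hl hQv hav hv

/-- C2 (GEN): if all `x_{u,v}(c)`, `u, v` rational, `c ∈ F` lie in `M`, then `M ≥ Ω` -/
theorem omega_le_of_all (h : QCtx F₀ Q)
    (hall : ∀ u v : ι → F, RatV F₀ u → RatV F₀ v → ∀ c : F, rt Q u v c ∈ M) :
    Cfsg.Geo.omegaGL ⇑Q ≤ M := by
  obtain ⟨fr⟩ := Cfsg.Agent.Lib.Helper18.OSubLeaf.exists_frame h
  exact Cfsg.Agent.Lib.Helper27.OSubCore.omega_le_of_all_of spStmt decStmt h fr hall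

end Cfsg.Agent.Lib.Helper27.OSubLeaf


end Cfsg.Agent.Lib.Helper11.Om11S
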