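import Mathlib
import Cfsg.Prelude.Def_ClassicalGeometry
import Cfsg.Prelude.Def_GeometricClasses
import Cfsg.Agent.Lib.Helper5.TSMax
import Cfsg.Agent.Lib.Helper5.LSubC
import Cfsg.Agent.Lib.Helper11.Om11S.H19_OSubDefs
import Cfsg.Agent.Lib.Helper11.Om11S.H19_OSubBasic
import Cfsg.Agent.Lib.Helper11.Om11S.H19_OSubDescent
import Cfsg.Agent.Lib.Helper11.Om11S.H9_OSubT12
import Cfsg.Agent.Lib.Helper11.Om11S.H18_OSubF12
import Cfsg.Agent.Lib.Helper11.Om11S.H24_OSubRD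
import Cfsg.Agent.Lib.Helper11.Om11S.H27_OSubC1core
import Cfsg.Agent.Lib.Helper11.Om11S.H27_OSubC2
import Cfsg.Agent.Lib.Helper11.Om11S.H26_OSubN1
import Cfsg.Agent.Lib.Helper11.Om11S.H26_OSubL1a
import Cfsg.Agent.Lib.Helper11.Om11S.H26_OSubL1b

set_option linter.dupNamespace false
set_option linter.ambiguousOpen false

namespace Cfsg.Agent.Lib.Helper11.Om11S

/-!
S5683 / S5702 (helper19's market): leaves N1, L1a, L1b with the exact signatures of
`notes/S5683_leaves.lean`.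
-/

set_option autoImplicit false
set_option linter.unusedSectionVars false
set_option linter.unusedVariables false

namespace Cfsg.Agent.Lib.Helper26.OSubLeaf
open Cfsg.Agent.Lib.Helper26.OSubLeaf
open Cfsg Matrix QuadraticMap Module Cfsg.Agent.Lib.Helper25.Siegel Cfsg.Agent.Lib.Helper19.OSub
open _root_.Cfsg _root_.Cfsg.Agent.Lib.Helper25.Siegel
open scoped commutatorElement

variable {ι : Type} [Fintype ι] [DecidableEq ι] {F : Type*} [Field F] [Fintype F]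
  {F₀ : Subfield F} {Q : QuadraticForm F (ι → F)} {M : Subgroup (GL ι F)}

theorem t1_stmt (h : QCtx F₀ Q) : T1Stmt F₀ Q :=
  fun ha ha0 hQa ha' ha'0 hQa' =>
    Cfsg.Agent.Lib.Helper9.OSubLeaf19.exists_H0_map_pt h ha ha0 hQa ha' ha'0 hQa'

theorem t2_stmt (h : QCtx F₀ Q) : T2Stmt F₀ Q :=
  fun ha hv ha' hv' hQa hQv hQa' hQv' hav hav' hi hi' =>
    Cfsg.Agent.Lib.Helper9.OSubLeaf19.exists_H0_map_pair h ha hv ha' hv' hQa hQv hQa' hQv' hav
      hav' hi hi'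

theorem nr_stmt (h : Ctx F₀ Q M) : NRStmt F₀ Q M := by
  intro u v hu hv hQu hQv huv hi c hc
  obtain ⟨fr⟩ := Cfsg.Agent.Lib.Helper18.OSubLeaf.exists_frame h.toQCtx
  have t2 : Cfsg.Agent.Lib.Helper27.OSubCore.T2Stmt F₀ Q :=
    fun ha hv ha' hv' hQa hQv hQa' hQv' hav hav' hi hi' =>
      Cfsg.Agent.Lib.Helper9.OSubLeaf19.exists_H0_map_pair h.toQCtx ha hv ha' hv' hQa hQv hQa'
        hQv' hav hav' hi hi'
  exact Cfsg.Agent.Lib.Helper27.OSubCore.nr_of Cfsg.Agent.Lib.Helper27.OSubLeaf.spStmt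
    Cfsg.Agent.Lib.Helper27.OSubLeaf.decStmt t2 h fr hu hv hQu hQv huv hi hc

theorem rd_stmt (h : QCtx F₀ Q) : RDStmt F₀ Q :=
  fun hr => Cfsg.Agent.Lib.Helper24.OSubLeaf19.ratV_of_polar h hr

/-- N1 (NS): root elements of `M` centred at a rational singular point are rational -/
theorem ratNS (h : Ctx F₀ Q M) {a w : ι → F} (ha : RatV F₀ a) (ha0 : a ≠ 0) (hQa : Q a = 0)
    (hQw : Q w = 0) (haw : polar Q a w = 0) (hM : rt Q a w 1 ∈ M) :
    ∃ θ : F, RatV F₀ (w - θ • a) :=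
  ratNS_of h (t1_stmt h.toQCtx) (t2_stmt h.toQCtx) (nr_stmt h) (rd_stmt h.toQCtx)
    (Cfsg.Agent.Lib.Helper18.OSubLeaf.exists_frame h.toQCtx) ha ha0 hQa hQw haw hM

theorem n1_stmt (h : Ctx F₀ Q M) : N1Stmt F₀ Q M :=
  fun ha ha0 hQa hQw haw hM => ratNS h ha ha0 hQa hQw haw hM

/-- L1a: an element of `M` fixing a rational singular point acts rationally (up to the scalar) on
the orthogonal complement of the point -/
theorem rat_on_perp (h : Ctx F₀ Q M) {g : GL ι F} (hg : g ∈ M) {a : ι → F} (ha : RatV F₀ a)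
    (ha0 : a ≠ 0) (hQa : Q a = 0) {l : F} (hga : mv g a = l • a) :
    l ^ 2 ∈ F₀ ∧ ∀ x, RatV F₀ x → polar Q a x = 0 → RatV F₀ (l • mv g x) :=
  rat_on_perp_of h (t1_stmt h.toQCtx) (n1_stmt h)
    (Cfsg.Agent.Lib.Helper18.OSubLeaf.exists_frame h.toQCtx) hg ha ha0 hQa hga

theorem l1a_stmt (h : Ctx F₀ Q M) : L1aStmt F₀ Q M :=
  fun hg _ ha ha0 hQa _ hga => rat_on_perp h hg ha ha0 hQa hga

/-- L1 (L5): an element of `M` mapping a rational singular point to a rational point lies in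
the subfield group -/
theorem mem_of_rat_point (h : Ctx F₀ Q M) {g : GL ι F} (hg : g ∈ M) {a a' : ι → F}
    (ha : RatV F₀ a) (ha0 : a ≠ 0) (hQa : Q a = 0) (ha' : RatV F₀ a') {l : F}
    (hga : mv g a = l • a') : g ∈ Cfsg.Geo.subfieldSubgroup F₀ (1 : GL ι F) :=
  mem_of_rat_point_of h (t1_stmt h.toQCtx) (l1a_stmt h) (rd_stmt h.toQCtx)
    (Cfsg.Agent.Lib.Helper18.OSubLeaf.exists_frame h.toQCtx) hg ha ha0 hQa ha' hga

end Cfsg.Agent.Lib.Helper26.OSubLeaf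


end Cfsg.Agent.Lib.Helper11.Om11S
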