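import Mathlib
import Cfsg.Prelude.Def_ClassicalGeometry
import Cfsg.Prelude.Def_GeometricClasses
import Cfsg.Agent.Lib.Helper5.TSMax
import Cfsg.Agent.Lib.Helper11.Om11S.H19_OSubDefs
import Cfsg.Agent.Lib.Helper11.Om11S.H19_OSubBasic
import Cfsg.Agent.Lib.Helper11.Om11S.H19_OSubDescent
import Cfsg.Agent.Lib.Helper11.Om11S.H27_OSubC1core

set_option linter.dupNamespace false
set_option linter.ambiguousOpen false

namespace Cfsg.Agent.Lib.Helper11.Om11S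

/-!
helper27: S5683 / S5702 leaf P1 (`mem_of_perp_pairs`), core version: T1, N1, L1b, SP and the frame are
explicit hypotheses.
-/

set_option autoImplicit false
set_option linter.unusedSectionVars false
set_option linter.unusedVariables false

namespace Cfsg.Agent.Lib.Helper27.OSubCore
open Cfsg.Agent.Lib.Helper27.OSubCore
open Cfsg Matrix QuadraticMap Module Cfsg.Agent.Lib.Helper25.Siegel Cfsg.Agent.Lib.Helper19.OSub
open _root_.Cfsg _root_.Cfsg.Agent.Lib.Helper25.Siegel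
open scoped commutatorElement

variable {ι : Type} [Fintype ι] [DecidableEq ι] {F : Type*} [Field F] [Fintype F]
  {F₀ : Subfield F} {Q : QuadraticForm F (ι → F)} {M : Subgroup (GL ι F)}

/-- the statement of leaf T1 -/
def T1Stmt (F₀ : Subfield F) (Q : QuadraticForm F (ι → F)) : Prop :=
  ∀ {a a' : ι → F}, RatV F₀ a → a ≠ 0 → Q a = 0 → RatV F₀ a' → a' ≠ 0 → Q a' = 0 →
    ∃ g ∈ H0 F₀ Q, (∀ x, RatV F₀ x → RatV F₀ (mv g x)) ∧ (∀ x, RatV F₀ x → RatV F₀ (mv g⁻¹ x)) ∧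
      ∃ s ∈ F₀, s ≠ 0 ∧ mv g a = s • a'

/-- the statement of leaf N1 -/
def N1Stmt (F₀ : Subfield F) (Q : QuadraticForm F (ι → F)) (M : Subgroup (GL ι F)) : Prop :=
  ∀ {a w : ι → F}, RatV F₀ a → a ≠ 0 → Q a = 0 → Q w = 0 → polar Q a w = 0 → rt Q a w 1 ∈ M →
    ∃ θ : F, RatV F₀ (w - θ • a)

/-- the statement of leaf L1b -/
def L1bStmt (F₀ : Subfield F) (Q : QuadraticForm F (ι → F)) (M : Subgroup (GL ι F)) : Prop :=
  ∀ {g : GL ι F}, g ∈ M → ∀ {a a' : ι → F}, RatV F₀ a → a ≠ 0 → Q a = 0 → RatV F₀ a' →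
    ∀ {l : F}, mv g a = l • a' → g ∈ Cfsg.Geo.subfieldSubgroup F₀ (1 : GL ι F)

theorem M_le_iso (h : Ctx F₀ Q M) : M ≤ Cfsg.isometryGroup F ⇑Q :=
  fun _ hg => omegaGL_le_iso (h.le_om hg)

/-- membership of commutators -/
theorem comm_mem {x y : GL ι F} (hx : x ∈ M) (hy : y ∈ M) : ⁅x, y⁆ ∈ M := by
  rw [commutatorElement_def]
  exact M.mul_mem (M.mul_mem (M.mul_mem hx hy) (M.inv_mem hx)) (M.inv_mem hy)

/-- a vector orthogonal to all rational singular vectors of `e₀^⊥` is a multiple of `e₀` -/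
theorem eq_smul_of_perp_sing (sp : SPStmt F₀ Q) (h : QCtx F₀ Q) (fr : Frame F₀ Q 5) {w : ι → F}
    (hw : ∀ v, RatV F₀ v → Q v = 0 → polar Q (fr.e 0) v = 0 → polar Q v w = 0) :
    w = polar Q (fr.f 0) w • fr.e 0 := by
  have n01 : (0 : Fin 5) ≠ 1 := by decide
  have ef : ∀ i, polar Q (fr.e i) (fr.f i) = 1 := fun i => by rw [fr.ef, if_pos rfl]
  have h1 : ∀ z, RatV F₀ z → polar Q (fr.e 0) z = 0 → polar Q z w = 0 := by
    intro z hz hez
    obtain ⟨s, c₂, c₃, hQs, hes, hzdec, hrat⟩ := sp (e₀ := fr.e 0) (fr.Qe 1) (fr.Qf 1) (ef 1)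
      (fr.ee 0 1) (by rw [fr.ef, if_neg n01]) hez
    obtain ⟨hs, -, -⟩ := hrat h (fr.rat_e 1) (fr.rat_f 1) hz
    rw [hzdec, polar_add_left, polar_add_left, polar_smul_left, polar_smul_left,
      hw s hs hQs hes, hw (fr.f 1) (fr.rat_f 1) (fr.Qf 1) (by rw [fr.ef, if_neg n01]),
      hw (fr.e 1) (fr.rat_e 1) (fr.Qe 1) (fr.ee 0 1)]
    simp
  have h2 : ∀ z, RatV F₀ z → polar Q (w - polar Q (fr.f 0) w • fr.e 0) z = 0 := by
    intro z hz
    have hz' : RatV F₀ (z - polar Q (fr.e 0) z • fr.f 0) :=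
      ratV_sub hz (ratV_smul (ratV_polar h (fr.rat_e 0) hz) (fr.rat_f 0))
    have hez' : polar Q (fr.e 0) (z - polar Q (fr.e 0) z • fr.f 0) = 0 := by
      rw [polar_sub_right, polar_smul_right, ef 0, smul_eq_mul, mul_one, sub_self]
    have := h1 _ hz' hez'
    rw [polar_sub_left, polar_smul_left, smul_eq_mul] at this
    rw [polar_sub_left, polar_smul_left, smul_eq_mul, polar_comm Q w z]
    linear_combination this
  have h3 : w - polar Q (fr.f 0) w • fr.e 0 = 0 := by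
    apply h.nd.1
    intro y
    rw [polarBilin_apply_apply]
    exact polar_zero_of_rat (F₀ := F₀) h2 y
  exact sub_eq_zero.1 h3

/-- P1 (core), for the first frame vector -/
theorem mem_of_perp_pairs_e0 (sp : SPStmt F₀ Q) (n1 : N1Stmt F₀ Q M) (l1b : L1bStmt F₀ Q M)
    (h : Ctx F₀ Q M) (fr : Frame F₀ Q 5) {g : GL ι F} (hg : g ∈ M)
    {d₁ d₁' d₂ d₂' : ι → F}
    (h₁ : HypPair F₀ Q d₁ d₁') (h₂ : HypPair F₀ Q d₂ d₂')
    (h12 : polar Q d₁ d₂ = 0) (h12' : polar Q d₁ d₂' = 0) (h1'2 : polar Q d₁' d₂ = 0)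
    (h1'2' : polar Q d₁' d₂' = 0)
    (hx₁ : polar Q (mv g (fr.e 0)) d₁ = 0) (hx₁' : polar Q (mv g (fr.e 0)) d₁' = 0)
    (hx₂ : polar Q (mv g (fr.e 0)) d₂ = 0) (hx₂' : polar Q (mv g (fr.e 0)) d₂' = 0) :
    g ∈ Cfsg.Geo.subfieldSubgroup F₀ (1 : GL ι F) := by
  classical
  have hq : QCtx F₀ Q := h.toQCtx
  have hgi : g ∈ Cfsg.isometryGroup F ⇑Q := M_le_iso h hg
  have ef : ∀ i, polar Q (fr.e i) (fr.f i) = 1 := fun i => by rw [fr.ef, if_pos rfl]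
  have he0 : fr.e 0 ≠ 0 := by
    intro h0
    have := ef 0
    rw [h0, polar_zero_left] at this
    exact zero_ne_one this
  obtain ⟨x, hxdef⟩ : ∃ x, x = mv g (fr.e 0) := ⟨_, rfl⟩
  rw [← hxdef] at hx₁ hx₁' hx₂ hx₂'
  have hQx : Q x = 0 := by rw [hxdef, iso_Q hgi, fr.Qe]
  -- a rational singular `v ⊥ e₀` with `B(d₁, g v) ≠ 0`
  obtain ⟨v, hv, hQv, hev, hβ⟩ : ∃ v, RatV F₀ v ∧ Q v = 0 ∧ polar Q (fr.e 0) v = 0 ∧
      polar Q d₁ (mv g v) ≠ 0 := by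
    by_contra hcon
    push Not at hcon
    have hw := eq_smul_of_perp_sing sp hq fr (w := mv g⁻¹ d₁) (fun v hv hQv hev => by
      rw [iso_polar_inv hgi, polar_comm]
      exact hcon v hv hQv hev)
    have hd : d₁ = polar Q (fr.f 0) (mv g⁻¹ d₁) • x := by
      have := congrArg (mv g) hw
      rw [mv_mv_inv, mv_smul, ← hxdef] at this
      exact this
    have := h₁.dd'
    rw [hd, polar_smul_left, hx₁', smul_zero] at this
    exact zero_ne_one this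
  obtain ⟨y, hydef⟩ : ∃ y, y = mv g v := ⟨_, rfl⟩
  obtain ⟨β, hβdef⟩ : ∃ β, β = polar Q d₁ y := ⟨_, rfl⟩
  obtain ⟨γ, hγdef⟩ : ∃ γ, γ = polar Q d₂ y := ⟨_, rfl⟩
  rw [← hydef, ← hβdef] at hβ
  have hQy : Q y = 0 := by rw [hydef, iso_Q hgi, hQv]
  have hxy : polar Q x y = 0 := by rw [hxdef, hydef, iso_polar hgi, hev]
  -- `rt x y 1 ∈ M`
  have hX : rt Q x y 1 ∈ M := by
    have h0 : rt Q (fr.e 0) v 1 ∈ M := h.le (rt_mem_H0 hq (fr.rat_e 0) hv F₀.one_mem)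
    have := M.mul_mem (M.mul_mem hg h0) (M.inv_mem hg)
    rw [conj_rt hgi, ← hxdef, ← hydef] at this
    exact this
  have hH : ∀ u w, RatV F₀ u → RatV F₀ w → rt Q u w 1 ∈ M := fun u w hu hw =>
    h.le (rt_mem_H0 hq hu hw F₀.one_mem)
  -- step 1
  have s1 : rt Q x (γ • d₁ - β • d₂) 1 ∈ M := by
    have := rt_comm1 (Q := Q) (a := x) (w := y) (u := d₁) (v := d₂) hQx hQy h₁.Qd h₂.Qd hxy hx₁
      hx₂ h12
    rw [← hγdef, ← hβdef] at this
    rw [← this]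
    exact comm_mem hX (hH _ _ h₁.rat h₂.rat)
  obtain ⟨b₁, hb₁⟩ : ∃ b₁, b₁ = γ • d₁ - β • d₂ := ⟨_, rfl⟩
  rw [← hb₁] at s1
  have hQb₁ : Q b₁ = 0 := by
    rw [hb₁, sub_eq_add_neg, ← neg_smul, Cfsg.Agent.Lib.Helper25.MaxTS.Q_add,
      QuadraticMap.map_smul, QuadraticMap.map_smul, h₁.Qd, h₂.Qd, polar_smul_left,
      polar_smul_right, h12]
    simp
  have hxb₁ : polar Q x b₁ = 0 := by
    rw [hb₁, polar_sub_right, polar_smul_right, polar_smul_right, hx₁, hx₂]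
    simp
  have pd₁ : polar Q d₁ d₁ = 0 := polar_self_sing h₁.Qd
  have pd₂' : polar Q d₂' d₂' = 0 := polar_self_sing h₂.Qd'
  -- step 2
  have s2 : rt Q x ((-β) • d₁) 1 ∈ M := by
    have := rt_comm1 (Q := Q) (a := x) (w := b₁) (u := d₁) (v := d₂') hQx hQb₁ h₁.Qd h₂.Qd' hxb₁
      hx₁ hx₂' h12'
    have e1 : polar Q d₂' b₁ = -β := by
      rw [hb₁, polar_sub_right, polar_smul_right, polar_smul_right, polar_comm Q d₂' d₁, h12',
        polar_comm Q d₂' d₂, h₂.dd']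
      simp
    have e2 : polar Q d₁ b₁ = 0 := by
      rw [hb₁, polar_sub_right, polar_smul_right, polar_smul_right, pd₁, h12]
      simp
    rw [e1, e2, zero_smul, sub_zero] at this
    rw [← this]
    exact comm_mem s1 (hH _ _ h₁.rat h₂.rat')
  have hQbd : Q ((-β) • d₁) = 0 := by rw [QuadraticMap.map_smul, h₁.Qd, smul_zero]
  have hxbd : polar Q x ((-β) • d₁) = 0 := by rw [polar_smul_right, hx₁, smul_zero]
  -- step 3
  have s3 : rt Q x ((-β) • d₂') 1 ∈ M := by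
    have h2'1' : polar Q d₂' d₁' = 0 := by rw [polar_comm]; exact h1'2'
    have := rt_comm1 (Q := Q) (a := x) (w := (-β) • d₁) (u := d₂') (v := d₁') hQx hQbd h₂.Qd'
      h₁.Qd' hxbd hx₂' hx₁' h2'1'
    have e1 : polar Q d₁' ((-β) • d₁) = -β := by
      rw [polar_smul_right, polar_comm Q d₁' d₁, h₁.dd']
      simp
    have e2 : polar Q d₂' ((-β) • d₁) = 0 := by
      rw [polar_smul_right, polar_comm Q d₂' d₁, h12', smul_zero]
    rw [e1, e2, zero_smul, sub_zero] at this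
    rw [← this]
    exact comm_mem s2 (hH _ _ h₂.rat' h₁.rat')
  -- swap: root elements centred at `d₁` and `d₂'`
  have swp : ∀ d : ι → F, Q d = 0 → polar Q x d = 0 → rt Q x ((-β) • d) 1 ∈ M →
      rt Q d (β • x) 1 ∈ M := by
    intro d hQd hxd hm
    have hdx : polar Q d x = 0 := by rw [polar_comm]; exact hxd
    have e : rt Q x ((-β) • d) 1 = rt Q d (β • x) 1 := by
      rw [rt_smul_right hQx hQd hxd, rt_swap hQx hQd hxd, rt_smul_right hQd hQx hdx]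
      congr 1
      ring
    rw [← e]
    exact hm
  have m1 := swp d₁ h₁.Qd hx₁ s2
  have m2 := swp d₂' h₂.Qd' hx₂' s3
  have hd₁0 : d₁ ≠ 0 := by
    intro h0
    have := h₁.dd'
    rw [h0, polar_zero_left] at this
    exact zero_ne_one this
  have hd₂'0 : d₂' ≠ 0 := by
    intro h0
    have := h₂.dd'
    rw [h0, polar_zero_right] at this
    exact zero_ne_one this
  have hQβx : Q (β • x) = 0 := by rw [QuadraticMap.map_smul, hQx, smul_zero]
  obtain ⟨θ, hθ⟩ := n1 h₁.rat hd₁0 h₁.Qd hQβx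
    (by rw [polar_smul_right, polar_comm, hx₁, smul_zero]) m1
  obtain ⟨θ', hθ'⟩ := n1 h₂.rat' hd₂'0 h₂.Qd' hQβx
    (by rw [polar_smul_right, polar_comm, hx₂', smul_zero]) m2
  have hdiff : RatV F₀ (θ • d₁ - θ' • d₂') := by
    have := ratV_sub hθ' hθ
    have e : β • x - θ' • d₂' - (β • x - θ • d₁) = θ • d₁ - θ' • d₂' := by module
    rw [e] at this
    exact this
  have hθ₀ : θ ∈ F₀ := by
    have := ratV_polar hq h₁.rat' hdiff
    rw [polar_sub_right, polar_smul_right, polar_smul_right, polar_comm Q d₁' d₁, h₁.dd',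
      h1'2'] at this
    simpa using this
  have hβx : RatV F₀ (β • x) := by
    have := ratV_add hθ (ratV_smul hθ₀ h₁.rat)
    rw [sub_add_cancel] at this
    exact this
  refine l1b hg (fr.rat_e 0) he0 (fr.Qe 0) hβx (l := β⁻¹) ?_
  rw [← hxdef, smul_smul, inv_mul_cancel₀ hβ, one_smul]

/-- P1 (core) -/
theorem mem_of_perp_pairs_of (sp : SPStmt F₀ Q) (t1 : T1Stmt F₀ Q) (n1 : N1Stmt F₀ Q M)
    (l1b : L1bStmt F₀ Q M) (h : Ctx F₀ Q M) (fr : Frame F₀ Q 5) {g : GL ι F} (hg : g ∈ M)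
    {a : ι → F} (ha : RatV F₀ a) (ha0 : a ≠ 0) (hQa : Q a = 0) {d₁ d₁' d₂ d₂' : ι → F}
    (h₁ : HypPair F₀ Q d₁ d₁') (h₂ : HypPair F₀ Q d₂ d₂')
    (h12 : polar Q d₁ d₂ = 0) (h12' : polar Q d₁ d₂' = 0) (h1'2 : polar Q d₁' d₂ = 0)
    (h1'2' : polar Q d₁' d₂' = 0)
    (hx₁ : polar Q (mv g a) d₁ = 0) (hx₁' : polar Q (mv g a) d₁' = 0)
    (hx₂ : polar Q (mv g a) d₂ = 0) (hx₂' : polar Q (mv g a) d₂' = 0) :
    g ∈ Cfsg.Geo.subfieldSubgroup F₀ (1 : GL ι F) := by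
  have ef : ∀ i, polar Q (fr.e i) (fr.f i) = 1 := fun i => by rw [fr.ef, if_pos rfl]
  have he0 : fr.e 0 ≠ 0 := by
    intro h0
    have := ef 0
    rw [h0, polar_zero_left] at this
    exact zero_ne_one this
  obtain ⟨g₀, hg₀H, -, -, s, hs, hs0, hg₀a⟩ := t1 ha ha0 hQa (fr.rat_e 0) he0 (fr.Qe 0)
  have hg₀M : g₀ ∈ M := h.le hg₀H
  have hg' : g * g₀⁻¹ ∈ M := M.mul_mem hg (M.inv_mem hg₀M)
  have hmv : mv (g * g₀⁻¹) (fr.e 0) = s⁻¹ • mv g a := by
    have e : fr.e 0 = s⁻¹ • mv g₀ a := by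
      rw [hg₀a, smul_smul, inv_mul_cancel₀ hs0, one_smul]
    conv_lhs => rw [e]
    rw [mv_smul, mv_mul, mv_inv_mv]
  have key := mem_of_perp_pairs_e0 sp n1 l1b h fr hg' h₁ h₂ h12 h12' h1'2 h1'2'
    (by rw [hmv, polar_smul_left, hx₁, smul_zero]) (by rw [hmv, polar_smul_left, hx₁', smul_zero])
    (by rw [hmv, polar_smul_left, hx₂, smul_zero]) (by rw [hmv, polar_smul_left, hx₂', smul_zero])
  have hg₀S : g₀ ∈ Cfsg.Geo.subfieldSubgroup F₀ (1 : GL ι F) := (Subgroup.mem_inf.1 hg₀H).1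
  have := (Cfsg.Geo.subfieldSubgroup F₀ (1 : GL ι F)).mul_mem key hg₀S
  rw [inv_mul_cancel_right] at this
  exact this

end Cfsg.Agent.Lib.Helper27.OSubCore


end Cfsg.Agent.Lib.Helper11.Om11S
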