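import Mathlib
import Cfsg.Prelude.Def_ClassicalGeometry
import Cfsg.Prelude.Def_GeometricClasses
import Cfsg.Agent.Lib.Helper5.TSMax
import Cfsg.Agent.Lib.Helper11.Om11S.H19_OSubDefs
import Cfsg.Agent.Lib.Helper11.Om11S.H19_OSubBasic
import Cfsg.Agent.Lib.Helper11.Om11S.H19_OSubDescent
import Cfsg.Agent.Lib.Helper11.Om11S.H9_OSubT12
import Cfsg.Agent.Lib.Helper11.Om11S.H18_OSubF12
import Cfsg.Agent.Lib.Helper11.Om11S.H26_OSubNL
import Cfsg.Agent.Lib.Helper11.Om11S.H27_OSubC2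
import Cfsg.Agent.Lib.Helper11.Om11S.H27_OSubP1core
import Cfsg.Agent.Lib.Helper11.Om11S.H27_OSubEcore

set_option linter.dupNamespace false
set_option linter.ambiguousOpen false

namespace Cfsg.Agent.Lib.Helper11.Om11S

/-!
helper27: S5683 / S5702 leaves P1 (`mem_of_perp_pairs`) and E (`easy_case`), exact signatures of
`notes/S5683_leaves.lean`.
-/

set_option autoImplicit false
set_option linter.unusedSectionVars false
set_option linter.unusedVariables false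

namespace Cfsg.Agent.Lib.Helper27.OSubLeaf
open Cfsg.Agent.Lib.Helper27.OSubLeaf
open Cfsg Matrix QuadraticMap Module Cfsg.Agent.Lib.Helper25.Siegel Cfsg.Agent.Lib.Helper19.OSub
open _root_.Cfsg _root_.Cfsg.Agent.Lib.Helper25.Siegel
open scoped commutatorElement

variable {ι : Type} [Fintype ι] [DecidableEq ι] {F : Type*} [Field F] [Fintype F]
  {F₀ : Subfield F} {Q : QuadraticForm F (ι → F)} {M : Subgroup (GL ι F)}

theorem t1Stmt (h : QCtx F₀ Q) : Cfsg.Agent.Lib.Helper27.OSubCore.T1Stmt F₀ Q :=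
  fun ha ha0 hQa ha' ha'0 hQa' =>
    Cfsg.Agent.Lib.Helper9.OSubLeaf19.exists_H0_map_pt h ha ha0 hQa ha' ha'0 hQa'

theorem n1Stmt (h : Ctx F₀ Q M) : Cfsg.Agent.Lib.Helper27.OSubCore.N1Stmt F₀ Q M :=
  fun ha ha0 hQa hQw haw hM => Cfsg.Agent.Lib.Helper26.OSubLeaf.ratNS h ha ha0 hQa hQw haw hM

theorem l1bStmt (h : Ctx F₀ Q M) : Cfsg.Agent.Lib.Helper27.OSubCore.L1bStmt F₀ Q M :=
  fun hg _ _ ha ha0 hQa ha' _ hga =>
    Cfsg.Agent.Lib.Helper26.OSubLeaf.mem_of_rat_point h hg ha ha0 hQa ha' hga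

/-- P1 (C'): if `g ∈ M` maps a rational singular vector to a vector orthogonal to two orthogonal
rational hyperbolic planes, then `g` lies in the subfield group -/
theorem mem_of_perp_pairs (h : Ctx F₀ Q M) {g : GL ι F} (hg : g ∈ M) {a : ι → F}
    (ha : RatV F₀ a) (ha0 : a ≠ 0) (hQa : Q a = 0) {d₁ d₁' d₂ d₂' : ι → F}
    (h₁ : HypPair F₀ Q d₁ d₁') (h₂ : HypPair F₀ Q d₂ d₂')
    (h12 : polar Q d₁ d₂ = 0) (h12' : polar Q d₁ d₂' = 0) (h1'2 : polar Q d₁' d₂ = 0)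
    (h1'2' : polar Q d₁' d₂' = 0)
    (hx₁ : polar Q (mv g a) d₁ = 0) (hx₁' : polar Q (mv g a) d₁' = 0)
    (hx₂ : polar Q (mv g a) d₂ = 0) (hx₂' : polar Q (mv g a) d₂' = 0) :
    g ∈ Cfsg.Geo.subfieldSubgroup F₀ (1 : GL ι F) := by
  obtain ⟨fr⟩ := Cfsg.Agent.Lib.Helper18.OSubLeaf.exists_frame h.toQCtx
  exact Cfsg.Agent.Lib.Helper27.OSubCore.mem_of_perp_pairs_of spStmt (t1Stmt h.toQCtx) (n1Stmt h)
    (l1bStmt h) h fr hg ha ha0 hQa h₁ h₂ h12 h12' h1'2 h1'2' hx₁ hx₁' hx₂ hx₂'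

/-- E: the case `[F : F₀] = 2` -/
theorem easy_case (h : Ctx F₀ Q M) (hr : Module.finrank F₀ F = 2) {g : GL ι F} (hg : g ∈ M) :
    g ∈ Cfsg.Geo.subfieldSubgroup F₀ (1 : GL ι F) := by
  obtain ⟨fr⟩ := Cfsg.Agent.Lib.Helper18.OSubLeaf.exists_frame h.toQCtx
  exact Cfsg.Agent.Lib.Helper27.OSubCore.easy_case_of spStmt (t1Stmt h.toQCtx) (n1Stmt h)
    (l1bStmt h) h fr hr hg

end Cfsg.Agent.Lib.Helper27.OSubLeaf


end Cfsg.Agent.Lib.Helper11.Om11S
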