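import Mathlib
import Cfsg.Prelude.Def_ClassicalGeometry
import Cfsg.Prelude.Def_GeometricClasses
import Cfsg.Agent.Lib.Helper5.TSMax
import Cfsg.Agent.Lib.Helper5.LSubC
import Cfsg.Agent.Lib.Helper11.Om11S.H19_OSubDefs
import Cfsg.Agent.Lib.Helper11.Om11S.H19_OSubBasic
import Cfsg.Agent.Lib.Helper11.Om11S.H19_OSubDescent
import Cfsg.Agent.Lib.Helper11.Om11S.H19_OSubEM
import Cfsg.Agent.Lib.Helper11.Om11S.H13_OSubDEGcore
import Cfsg.Agent.Lib.Helper11.Om11S.H13_OSubG123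
import Cfsg.Agent.Lib.Helper11.Om11S.H18_OSubF12
import Cfsg.Agent.Lib.Helper18.OSubGF
import Cfsg.Agent.Lib.Helper11.Om11S.H18_OSubR2
import Cfsg.Agent.Lib.Helper11.Om11S.H23_OSubRA
import Cfsg.Agent.Lib.Helper11.Om11S.H23_OSubX4c
import Cfsg.Agent.Lib.Helper11.Om11S.H23_OSubX6c
import Cfsg.Agent.Lib.Helper11.Om11S.H24_OSubR
import Cfsg.Agent.Lib.Helper11.Om11S.H27_OSubP1

set_option linter.dupNamespace false
set_option linter.ambiguousOpen false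

namespace Cfsg.Agent.Lib.Helper11.Om11S

/-!
helper19: S5683 / S5702: assembly of the leaves: the standard subfield subgroup `H0` is maximal in `Ω(Q)`.
-/

set_option autoImplicit false
set_option linter.unusedSectionVars false
set_option linter.unusedVariables false

namespace Cfsg.Agent.Lib.Helper19.OSub
open Cfsg.Agent.Lib.Helper19.OSub
open Cfsg Matrix QuadraticMap Module
open _root_.Cfsg

variable {ι : Type} [Fintype ι] [DecidableEq ι] {F : Type*} [Field F] [Fintype F]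
  {F₀ : Subfield F} {Q : QuadraticForm F (ι → F)} {M : Subgroup (GL ι F)}

/-! ### the leaves (landed by helper13, helper18, helper20, helper23, helper24, helper26, helper27, helper9) -/

theorem mem_of_perp_pairs (h : Ctx F₀ Q M) {g : GL ι F} (hg : g ∈ M) {a : ι → F}
    (ha : RatV F₀ a) (ha0 : a ≠ 0) (hQa : Q a = 0) {d₁ d₁' d₂ d₂' : ι → F}
    (h₁ : HypPair F₀ Q d₁ d₁') (h₂ : HypPair F₀ Q d₂ d₂')
    (h12 : polar Q d₁ d₂ = 0) (h12' : polar Q d₁ d₂' = 0) (h1'2 : polar Q d₁' d₂ = 0)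
    (h1'2' : polar Q d₁' d₂' = 0)
    (hx₁ : polar Q (mv g a) d₁ = 0) (hx₁' : polar Q (mv g a) d₁' = 0)
    (hx₂ : polar Q (mv g a) d₂ = 0) (hx₂' : polar Q (mv g a) d₂' = 0) :
    g ∈ Cfsg.Geo.subfieldSubgroup F₀ (1 : GL ι F) :=
  Cfsg.Agent.Lib.Helper27.OSubLeaf.mem_of_perp_pairs h hg ha ha0 hQa h₁ h₂ h12 h12' h1'2 h1'2'
    hx₁ hx₁' hx₂ hx₂'

theorem easy_case (h : Ctx F₀ Q M) (hr : Module.finrank F₀ F = 2) {g : GL ι F} (hg : g ∈ M) :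
    g ∈ Cfsg.Geo.subfieldSubgroup F₀ (1 : GL ι F) :=
  Cfsg.Agent.Lib.Helper27.OSubLeaf.easy_case h hr hg

theorem exists_sing_eig (h : QCtx F₀ Q) (h2 : (2 : F) ≠ 0) {z : GL ι F} (hz : RatInv F₀ Q z) {ε : F}
    (hε : ε = 1 ∨ ε = -1) (h3 : 3 ≤ finrank F (Eig z ε)) :
    ∃ a, RatV F₀ a ∧ a ≠ 0 ∧ Q a = 0 ∧ mv z a = ε • a :=
  Cfsg.Agent.Lib.Helper13.OSubLeaf.exists_sing_eig h h2 hz hε h3

theorem exists_pairs_eig (h : QCtx F₀ Q) (h2 : (2 : F) ≠ 0) {z : GL ι F} (hz : RatInv F₀ Q z) {ε : F}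
    (hε : ε = 1 ∨ ε = -1) (h5 : 5 ≤ finrank F (Eig z ε)) :
    ∃ d₁ d₁' d₂ d₂' : ι → F, HypPair F₀ Q d₁ d₁' ∧ HypPair F₀ Q d₂ d₂' ∧
      polar Q d₁ d₂ = 0 ∧ polar Q d₁ d₂' = 0 ∧ polar Q d₁' d₂ = 0 ∧ polar Q d₁' d₂' = 0 ∧
      mv z d₁ = ε • d₁ ∧ mv z d₁' = ε • d₁' ∧ mv z d₂ = ε • d₂ ∧ mv z d₂' = ε • d₂' :=
  Cfsg.Agent.Lib.Helper13.OSubLeaf.exists_pairs_eig h h2 hz hε h5

theorem exists_frame_eig (h : QCtx F₀ Q) (h2 : (2 : F) ≠ 0) {y : GL ι F} (hy : RatInv F₀ Q y)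
    (h9 : 9 ≤ finrank F (Eig y 1)) :
    ∃ fr : Frame F₀ Q 4, ∀ i, mv y (fr.e i) = fr.e i ∧ mv y (fr.f i) = fr.f i :=
  Cfsg.Agent.Lib.Helper13.OSubLeaf.exists_frame_eig h h2 hy h9

theorem exists_ginv4 (h : QCtx F₀ Q) (h2 : (2 : F) ≠ 0) {y : GL ι F} (hy : RatInv F₀ Q y)
    (hk : finrank F (Eig y (-1)) ≤ 2) :
    ∃ t, GInv F₀ Q t ∧ t * y = y * t ∧ (∀ v, mv y v = -v → mv t v = v) ∧
      finrank F (Eig t (-1)) = 4 :=
  Cfsg.Agent.Lib.Helper23.OSubLeaf.exists_ginv4_core h h2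
    (fun hy h9 => exists_frame_eig h h2 hy h9) hy hk

theorem exists_ginv6 (h : QCtx F₀ Q) (h2 : (2 : F) ≠ 0) {y : GL ι F} (hy : RatInv F₀ Q y)
    (hk : finrank F (Eig y (-1)) ≤ 2) :
    ∃ t, GInv F₀ Q t ∧ t * y = y * t ∧ (∀ v, mv y v = -v → mv t v = v) ∧
      finrank F (Eig t (-1)) = 6 :=
  Cfsg.Agent.Lib.Helper23.OSubLeaf.exists_ginv6_core h h2
    (fun hz h5 => exists_pairs_eig h h2 hz (Or.inl rfl) h5)
    (fun hy h9 => exists_frame_eig h h2 hy h9) hy hk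

theorem ratact (hp : (Module.finrank F₀ F).Prime) (h3 : 3 ≤ Module.finrank F₀ F) {z : GL ι F}
    (hz : z ∈ Cfsg.Geo.subfieldSubgroup F₀ (1 : GL ι F)) (hzz : z * z = 1) :
    ∀ x, RatV F₀ x → RatV F₀ (mv z x) :=
  Cfsg.Agent.Lib.Helper23.OSubLeaf.ratact hp h3 hz hzz

theorem H0_lt (h : QCtx F₀ Q) (hF : 2 ≤ Module.finrank F₀ F) :
    H0 F₀ Q < Cfsg.Geo.omegaGL ⇑Q :=
  Cfsg.Agent.Lib.Helper24.OSubLeaf19.H0_lt h hF


/-- S: the centraliser in `M` of a good involution lies in the subfield group -/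
theorem stab (h : Ctx F₀ Q M) {t : GL ι F} (ht : GInv F₀ Q t) {z : GL ι F} (hz : z ∈ M)
    (hc : z * t = t * z) : z ∈ Cfsg.Geo.subfieldSubgroup F₀ (1 : GL ι F) := by
  obtain ⟨a, c, ha, ha0, hQa, hac⟩ := ht.ex_a
  obtain ⟨d₁, d₁', d₂, d₂', h₁, h₂, h12, h12', h1'2, h1'2', hperp⟩ := ht.ex_d
  have hza : mv z a = mv t (mv z c) - mv z c := by
    rw [← hac, mv_sub, ← mv_mul, ← mv_mul, hc]
  obtain ⟨p1, p2, p3, p4⟩ := hperp (mv z c)
  refine mem_of_perp_pairs h hz ha ha0 hQa h₁ h₂ h12 h12' h1'2 h1'2' ?_ ?_ ?_ ?_ <;>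
    rw [hza] <;> assumption

/-- D: one round of the dihedral trick relative to `y` -/
theorem round (h : Ctx F₀ Q M) (h2 : (2 : F) ≠ 0) (hr3 : 3 ≤ Module.finrank F₀ F) {g : GL ι F}
    (hg : g ∈ M) {y : GL ι F} (hy : RatInv F₀ Q y) (hy' : RatInv F₀ Q (g⁻¹ * y * g))
    (hk : finrank F (Eig y (-1)) ≤ 2) :
    ∃ z, z ∈ M ∧ RatInv F₀ Q z ∧ RatInv F₀ Q (g⁻¹ * z * g) ∧ z ≠ 1 ∧ z * y = y * z ∧
      (∀ v, mv y v = -v → mv z v = v) ∧ Fintype.card ι ≤ finrank F (Eig z 1) + 10 :=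
  Cfsg.Agent.Lib.Helper13.OSubLeaf.round_core
    (fun hy hk => exists_ginv4 h.toQCtx h2 hy hk) (fun hy hk => exists_ginv6 h.toQCtx h2 hy hk)
    (fun ht _ hz hc => stab h ht hz hc) (fun hz hzz => ratact h.prime hr3 hz hzz)
    (fun hz => finrank_eig_add h2 hz) finrank_eig_conj h hg hy hy' hk

/-- EG: the end game -/
theorem endgame (h : Ctx F₀ Q M) (h2 : (2 : F) ≠ 0) {g : GL ι F} (hg : g ∈ M) {z : GL ι F}
    (hz : RatInv F₀ Q z) (hz' : RatInv F₀ Q (g⁻¹ * z * g)) (h3 : 3 ≤ finrank F (Eig z (-1)))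
    (h3' : finrank F (Eig z (-1)) + 3 ≤ Fintype.card ι) :
    g ∈ Cfsg.Geo.subfieldSubgroup F₀ (1 : GL ι F) :=
  Cfsg.Agent.Lib.Helper13.OSubLeaf.endgame_core
    (fun hz _ hε h3 => exists_sing_eig h.toQCtx h2 hz hε h3)
    (fun hz _ hε h5 => exists_pairs_eig h.toQCtx h2 hz hε h5)
    (fun hg _ ha ha0 hQa _ _ _ _ h₁ h₂ h12 h12' h1'2 h1'2' hx₁ hx₁' hx₂ hx₂' =>
      mem_of_perp_pairs h hg ha ha0 hQa h₁ h₂ h12 h12' h1'2 h1'2' hx₁ hx₁' hx₂ hx₂')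
    (fun hz => finrank_eig_add h2 hz) finrank_eig_conj h h2 hg hz hz' h3 h3'

/-- A: assembly of the hard case at `11 ≤ card ι`, relative to a treatment `hbad` of the case that the end game does
not reach (`z` from a round with `dim V_-(z) + 3 > card ι`; at `card ι = 11`: `dim V_-(z) ∈ {9, 10}`).
(helper19's `hard_case` with its single use of `13 ≤ card ι` isolated; helper11) -/
theorem hard_case_of_bad (h : Ctx F₀ Q M) (h2 : (2 : F) ≠ 0) (hr3 : 3 ≤ Module.finrank F₀ F)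
    {g : GL ι F} (hg : g ∈ M)
    (hbad : ∀ y z : GL ι F, RatInv F₀ Q y → RatInv F₀ Q (g⁻¹ * y * g) → finrank F (Eig y (-1)) ≤ 2 →
      z ∈ M → RatInv F₀ Q z → RatInv F₀ Q (g⁻¹ * z * g) → z ≠ 1 → z * y = y * z →
      (∀ v, mv y v = -v → mv z v = v) → Fintype.card ι ≤ finrank F (Eig z 1) + 10 →
      3 ≤ finrank F (Eig z (-1)) → Fintype.card ι < finrank F (Eig z (-1)) + 3 →
      g ∈ Cfsg.Geo.subfieldSubgroup F₀ (1 : GL ι F)) :
    g ∈ Cfsg.Geo.subfieldSubgroup F₀ (1 : GL ι F) := by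
  have hn := h.card
  have step : ∀ y : GL ι F, RatInv F₀ Q y → RatInv F₀ Q (g⁻¹ * y * g) →
      finrank F (Eig y (-1)) ≤ 2 →
      g ∈ Cfsg.Geo.subfieldSubgroup F₀ (1 : GL ι F) ∨
        ∃ y₂ : GL ι F, RatInv F₀ Q y₂ ∧ RatInv F₀ Q (g⁻¹ * y₂ * g) ∧
          finrank F (Eig y₂ (-1)) ≤ 2 ∧ finrank F (Eig y (-1)) < finrank F (Eig y₂ (-1)) := by
    intro y hy hy' hk
    obtain ⟨z, hzM, hz, hz', hz1, hzy, hd, hfix⟩ := round h h2 hr3 hg hy hy' hk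
    have hadd := finrank_eig_add h2 hz.sq
    have hk1 := eig_neg_ne_bot h2 hz.sq hz1
    by_cases hz3 : 3 ≤ finrank F (Eig z (-1))
    · left
      by_cases hz3' : finrank F (Eig z (-1)) + 3 ≤ Fintype.card ι
      · exact endgame h h2 hg hz hz' hz3 hz3'
      · exact hbad y z hy hy' hk hzM hz hz' hz1 hzy hd hfix hz3 (by omega)
    · have hyz : RatInv F₀ Q (y * z) := ratInv_mul hy hz hzy
      have e : g⁻¹ * (y * z) * g = (g⁻¹ * y * g) * (g⁻¹ * z * g) := by group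
      have hc' : g⁻¹ * z * g * (g⁻¹ * y * g) = g⁻¹ * y * g * (g⁻¹ * z * g) := by
        calc g⁻¹ * z * g * (g⁻¹ * y * g) = g⁻¹ * (z * y) * g := by group
          _ = g⁻¹ * (y * z) * g := by rw [hzy]
          _ = g⁻¹ * y * g * (g⁻¹ * z * g) := by group
      have hyz' : RatInv F₀ Q (g⁻¹ * (y * z) * g) := by
        rw [e]
        exact ratInv_mul hy' hz' hc'
      have hmul := finrank_eig_mul h2 hy.sq hz.sq hzy hd
      by_cases h3 : 3 ≤ finrank F (Eig (y * z) (-1))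
      · left
        exact endgame h h2 hg hyz hyz' h3 (by omega)
      · right
        exact ⟨y * z, hyz, hyz', by omega, by omega⟩
  have h1 : RatInv F₀ Q (g⁻¹ * 1 * g) := by
    have : g⁻¹ * 1 * g = 1 := by group
    rw [this]
    exact ratInv_one
  rcases step 1 ratInv_one h1 (by rw [eig_one_neg h2]; omega) with hdone | ⟨y₁, hy₁, hy₁', hk₁, hlt₁⟩
  · exact hdone
  rcases step y₁ hy₁ hy₁' hk₁ with hdone | ⟨y₂, hy₂, hy₂', hk₂, hlt₂⟩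
  · exact hdone
  rcases step y₂ hy₂ hy₂' hk₂ with hdone | ⟨y₃, hy₃, hy₃', hk₃, hlt₃⟩
  · exact hdone
  · rw [eig_one_neg h2] at hlt₁
    omega

/-- the standard subfield subgroup is maximal in `Ω(Q)`, odd characteristic, `11 ≤ card ι`, relative to a treatment
`hard` of the hard case (`3 ≤ [F : F₀]`) -/
theorem maximal_std_of_hard (h : QCtx F₀ Q) (h2 : (2 : F) ≠ 0) (hp : (Module.finrank F₀ F).Prime)
    (hard : ∀ M : Subgroup (GL ι F), Ctx F₀ Q M → 3 ≤ Module.finrank F₀ F → ∀ g ∈ M,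
      g ∈ Cfsg.Geo.subfieldSubgroup F₀ (1 : GL ι F)) :
    Cfsg.Geo.IsMaximalIn (Cfsg.Geo.omegaGL ⇑Q) (H0 F₀ Q) := by
  refine ⟨H0_lt h hp.two_le, fun M hHM hMS => ?_⟩
  by_cases hM : Cfsg.Geo.omegaGL ⇑Q ≤ M
  · exact Or.inr (le_antisymm hMS hM)
  · left
    have hctx : Ctx F₀ Q M := { toQCtx := h, le := hHM, le_om := hMS, ne := hM, prime := hp }
    apply le_antisymm _ hHM
    intro g hg
    refine Subgroup.mem_inf.mpr ⟨?_, hMS hg⟩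
    rcases Nat.lt_or_ge (Module.finrank F₀ F) 3 with h3 | h3
    · have : Module.finrank F₀ F = 2 := by have := hp.two_le; omega
      exact easy_case hctx this hg
    · exact hard M hctx h3 g hg

end Cfsg.Agent.Lib.Helper19.OSub


end Cfsg.Agent.Lib.Helper11.Om11S
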